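import Mathlib
import Groth.Agent.Misc3Fib.Special

/-!
# Points of fibres of finite locally free maps, affine neighbourhoods of finite sets (helper78)
-/

set_option autoImplicit false
set_option linter.style.haveILetI false

universe u

open CategoryTheory CategoryTheory.Limits AlgebraicGeometry

noncomputable section

namespace Groth.HilbPts

/-- a finite algebra over a field has at most as many primes as its dimension -/
lemma natCard_primeSpectrum_le (K A : Type u) [Field K] [CommRing A] [Algebra K A]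
    [Module.Finite K A] : Finite (PrimeSpectrum A) ∧ Nat.card (PrimeSpectrum A) ≤ Module.finrank K A := by
  haveI : IsArtinianRing A := isArtinian_of_tower K inferInstance
  haveI : Finite (PrimeSpectrum A) := inferInstance
  refine ⟨inferInstance, ?_⟩
  classical
  haveI := Fintype.ofFinite (PrimeSpectrum A)
  have hcop : Pairwise fun p q : PrimeSpectrum A => IsCoprime p.asIdeal q.asIdeal := by
    intro p q hpq
    haveI := IsArtinianRing.isMaximal_of_isPrime p.asIdeal
    haveI := IsArtinianRing.isMaximal_of_isPrime q.asIdeal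
    exact (Ideal.isCoprime_iff_sup_eq).2 (Ideal.IsMaximal.coprime_of_ne inferInstance inferInstance
      fun h => hpq (PrimeSpectrum.ext h))
  let ψ : A →ₗ[K] ∀ p : PrimeSpectrum A, A ⧸ p.asIdeal :=
    LinearMap.pi fun p => (Ideal.Quotient.mkₐ K p.asIdeal).toLinearMap
  have hψ : Function.Surjective ψ := by
    intro y
    obtain ⟨a, ha⟩ := Ideal.pi_quotient_surjective hcop y
    exact ⟨a, funext fun p => ha p⟩
  calc Nat.card (PrimeSpectrum A) = ∑ _p : PrimeSpectrum A, 1 := by simp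
    _ ≤ ∑ p : PrimeSpectrum A, Module.finrank K (A ⧸ p.asIdeal) :=
        Finset.sum_le_sum fun p _ => Module.finrank_pos
    _ = Module.finrank K (∀ p : PrimeSpectrum A, A ⧸ p.asIdeal) := (Module.finrank_pi_fintype K).symm
    _ ≤ Module.finrank K A := by
        rw [← LinearMap.finrank_range_of_inj (f := LinearMap.id (R := K) (M := A)) fun _ _ h => h,
          LinearMap.range_id, finrank_top]
        exact LinearMap.finrank_le_finrank_of_surjective hψ

/-- the fibres of a finite locally free map of degree `d` have at most `d` points -/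
lemma finite_fibre {Z T : Scheme.{u}} (q : Z ⟶ T) {d : ℕ} (hq : Mor2.IsFinLocFreeOfDeg d q) (t : T) :
    (q ⁻¹' {t}).Finite ∧ (q ⁻¹' {t}).ncard ≤ d := by
  obtain ⟨⟨h1, h2, -⟩, h3⟩ := hq
  haveI := h1
  haveI := h2
  obtain ⟨ha, hfin, hle⟩ := Groth.Misc3Fib.fibreDegLE_of_finrank_le q d (fun y => (h3 y).le) t
  letI := BddFib.secAlgebra (T.residueField t) (q.fiberToSpecResidueField t)
  haveI := hfin
  obtain ⟨hf, hc⟩ := natCard_primeSpectrum_le (T.residueField t) Γ(q.fiber t, ⊤)
  haveI := ha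
  let e : (q ⁻¹' {t}) ≃ PrimeSpectrum Γ(q.fiber t, ⊤) :=
    (q.fiberHomeo t).symm.toEquiv.trans (Scheme.homeoOfIso (q.fiber t).isoSpec).toEquiv
  haveI : Finite (q ⁻¹' {t}) := Finite.of_equiv _ e.symm
  refine ⟨Set.toFinite _, ?_⟩
  rw [← Nat.card_coe_set_eq, Nat.card_congr e]
  exact hc.trans hle

/-- a nonempty set with at most `d` elements is the range of a tuple -/
lemma exists_tuple {α : Type*} (F : Set α) (hF : F.Finite) {d : ℕ} (hd : F.ncard ≤ d)
    (hne : F.Nonempty) : ∃ x : Fin d → α, (∀ i, x i ∈ F) ∧ ∀ a ∈ F, ∃ i, x i = a := by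
  classical
  haveI := hF.to_subtype
  obtain ⟨a₀, ha₀⟩ := hne
  let e := Finite.equivFin F
  have hn : Nat.card F ≤ d := by rwa [Nat.card_coe_set_eq]
  refine ⟨fun i => if h : (i : ℕ) < Nat.card F then (e.symm ⟨i, h⟩ : F) else a₀, fun i => ?_,
    fun a ha => ⟨⟨e ⟨a, ha⟩, (e ⟨a, ha⟩).2.trans_le hn⟩, ?_⟩⟩
  · dsimp only
    split
    · exact Subtype.coe_prop _
    · exact ha₀
  · simp only [Fin.is_lt, dite_true, Fin.eta]
    exact congrArg Subtype.val (e.symm_apply_apply ⟨a, ha⟩)

/-- a finite subset of an affine open contained in an open subset has an affine neighbourhood in it -/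
lemma exists_affine_le_of_finite {X : Scheme.{u}} {U : X.Opens} (hU : IsAffineOpen U) (W : X.Opens)
    {F : Set X} (hF : F.Finite) (hFU : F ⊆ U) (hFW : F ⊆ W) :
    ∃ V : X.Opens, IsAffineOpen V ∧ V ≤ W ∧ F ⊆ V := by
  classical
  let G : Set (PrimeSpectrum Γ(X, U)) := hU.fromSpec ⁻¹' F
  have hG : G.Finite := hF.preimage hU.fromSpec.isOpenEmbedding.injective.injOn
  obtain ⟨I, hI⟩ := (PrimeSpectrum.isClosed_iff_zeroLocus_ideal _).1
    ((hU.fromSpec ⁻¹ᵁ W).2.isClosed_compl)
  obtain ⟨g, hgI, hg⟩ : ∃ g ∈ I, ∀ p ∈ G, g ∉ p.asIdeal := by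
    by_contra h
    push Not at h
    have hsub : (I : Set Γ(X, U)) ⊆ ⋃ p ∈ (↑hG.toFinset : Set (PrimeSpectrum Γ(X, U))), p.asIdeal := by
      intro g hg
      obtain ⟨p, hp, hgp⟩ := h g hg
      exact Set.mem_biUnion (hG.mem_toFinset.2 hp) hgp
    obtain ⟨x, hx⟩ : (hG.toFinset).Nonempty := by
      obtain ⟨p, hp, -⟩ := h 0 I.zero_mem
      exact ⟨p, hG.mem_toFinset.2 hp⟩
    obtain ⟨p, hp, hIp⟩ := (Ideal.subset_union_prime x x fun p _ _ _ => p.2).1 hsub
    have hp' : p ∈ PrimeSpectrum.zeroLocus (I : Set Γ(X, U)) := hIp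
    rw [← hI] at hp'
    exact hp' (hFW (hG.mem_toFinset.1 hp))
  have hpre : ∀ y : PrimeSpectrum Γ(X, U), hU.fromSpec y ∈ X.basicOpen g ↔ g ∉ y.asIdeal := by
    intro y
    show y ∈ hU.fromSpec ⁻¹ᵁ X.basicOpen g ↔ _
    rw [hU.fromSpec_preimage_basicOpen]
    rfl
  refine ⟨X.basicOpen g, hU.basicOpen g, fun x hx => ?_, fun x hx => ?_⟩
  · obtain ⟨y, rfl⟩ : x ∈ Set.range hU.fromSpec := by
      rw [hU.range_fromSpec]; exact X.basicOpen_le g hx
    by_contra hW
    have hy : y ∈ PrimeSpectrum.zeroLocus (I : Set Γ(X, U)) := by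
      rw [← hI]; exact hW
    exact (hpre y).1 hx (hy hgI)
  · obtain ⟨y, rfl⟩ : x ∈ Set.range hU.fromSpec := by rw [hU.range_fromSpec]; exact hFU hx
    exact (hpre y).2 (hg y hx)

end Groth.HilbPts
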