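import Mathlib
import Groth.Agent.AlgGrp2.EqLocus
import Groth.Prelude.Def_Mor2

/-!
# The locus where a finite locally free family lies in a closed subscheme (helper78)
-/

set_option autoImplicit false
set_option linter.style.haveILetI false

universe u

open CategoryTheory CategoryTheory.Limits AlgebraicGeometry Opposite TensorProduct

noncomputable section

namespace Groth.HilbPts

/-- `g` factors through the closed immersion `c` iff the ideal of `c` dies on `g` -/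
lemma exists_fac_iff_ker_le {X Y Z : Scheme.{u}} (c : X ⟶ Z) [IsClosedImmersion c] (g : Y ⟶ Z) :
    (∃ z, z ≫ c = g) ↔ c.ker ≤ g.ker :=
  ⟨fun ⟨z, hz⟩ => hz ▸ z.le_ker_comp c,
    fun h => ⟨IsClosedImmersion.lift c g h, IsClosedImmersion.lift_fac c g h⟩⟩

section

variable {Z₀ Z T : Scheme.{u}} (c : Z₀ ⟶ Z) (p : Z ⟶ T)

/-- the base change of the whole family lies in `c` -/
def InLocus ⦃W : Scheme.{u}⦄ (f : W ⟶ T) : Prop :=
  ∃ z, z ≫ c = pullback.fst p f

lemma inLocus_of_isPullback {W P : Scheme.{u}} (f : W ⟶ T) {a : P ⟶ Z} {b : P ⟶ W}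
    (h : IsPullback a b p f) : InLocus c p f ↔ ∃ z, z ≫ c = a := by
  constructor
  · rintro ⟨z, hz⟩
    exact ⟨h.isoPullback.hom ≫ z, by rw [Category.assoc, hz, h.isoPullback_hom_fst]⟩
  · rintro ⟨z, hz⟩
    exact ⟨h.isoPullback.inv ≫ z, by rw [Category.assoc, hz, h.isoPullback_inv_fst]⟩

lemma inLocus_comp ⦃V W : Scheme.{u}⦄ (g : V ⟶ W) (f : W ⟶ T) (hf : InLocus c p f) :
    InLocus c p (g ≫ f) := by
  obtain ⟨z, hz⟩ := hf
  refine ⟨pullback.lift (pullback.fst p (g ≫ f)) (pullback.snd _ _ ≫ g)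
    (by simp [pullback.condition]) ≫ z, ?_⟩
  rw [Category.assoc, hz, pullback.lift_fst]

lemma inLocus_local [IsClosedImmersion c] ⦃W : Scheme.{u}⦄ (f : W ⟶ T) (𝒰 : Scheme.OpenCover.{u} W)
    (h : ∀ i, InLocus c p (𝒰.f i ≫ f)) : InLocus c p f := by
  let 𝒱 : Scheme.OpenCover.{u} (pullback p f) := 𝒰.pullback₁ (pullback.snd p f)
  have h' : ∀ i, ∃ z, z ≫ c = 𝒱.f i ≫ pullback.fst p f := fun i => by
    obtain ⟨z, hz⟩ := h i
    refine ⟨pullback.lift (pullback.fst (pullback.snd p f) (𝒰.f i) ≫ pullback.fst p f)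
      (pullback.snd _ _) ?_ ≫ z, ?_⟩
    · rw [Category.assoc, pullback.condition]
      exact pullback.condition_assoc _
    · rw [Category.assoc, hz, pullback.lift_fst]
      rfl
  choose z hz using h'
  refine ⟨Scheme.Cover.glueMorphisms 𝒱 z fun i j => ?_, Scheme.Cover.hom_ext 𝒱 _ _ fun i => ?_⟩
  · rw [← cancel_mono c, Category.assoc, Category.assoc, hz, hz, pullback.condition_assoc]
  · rw [Scheme.Cover.ι_glueMorphisms_assoc, hz]

lemma hasIdeal_inLocus [IsClosedImmersion c] [IsFinite p] [Flat p] [LocallyOfFinitePresentation p]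
    (U : T.affineOpens) : Groth.AlgGrp2.HasIdeal (InLocus c p) U := by
  let V : Z.Opens := p ⁻¹ᵁ U.1
  have hV : IsAffineOpen V := U.2.preimage p
  let W : Z₀.Opens := c ⁻¹ᵁ V
  have hW : IsAffineOpen W := hV.preimage c
  letI := (p.appLE U.1 V le_rfl).hom.toAlgebra
  have hfin : Module.Finite Γ(T, U.1) Γ(Z, V) := by
    have := p.finite_app U.1 U.2
    rw [Scheme.Hom.app_eq_appLE] at this
    exact this
  have hflat : Module.Flat Γ(T, U.1) Γ(Z, V) := p.flat_appLE U.2 hV le_rfl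
  have hfp : Algebra.FinitePresentation Γ(T, U.1) Γ(Z, V) := p.finitePresentation_appLE U.2 hV le_rfl
  haveI := Module.FinitePresentation.of_finite_of_finitePresentation (R := Γ(T, U.1)) (S := Γ(Z, V))
  haveI : Module.Projective Γ(T, U.1) Γ(Z, V) := Module.Flat.projective_of_finitePresentation
  let σ : Γ(Z, V) →+* Γ(Z₀, W) := (c.appLE V W le_rfl).hom
  have hσ : Function.Surjective σ := by
    have := c.app_surjective V hV
    rw [Scheme.Hom.app_eq_appLE] at this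
    exact this
  obtain ⟨I, hI⟩ := Groth.AlgGrp2.exists_ideal_map_le_ker (B := Γ(Z, V)) (A := Γ(T, U.1))
    ((RingHom.ker σ).map (Algebra.TensorProduct.includeRight :
      Γ(Z, V) →ₐ[Γ(T, U.1)] Γ(T, U.1) ⊗[Γ(T, U.1)] Γ(Z, V)).toRingHom)
  refine ⟨I, fun C φ => ?_⟩
  letI := φ.hom.toAlgebra
  have hsq : IsPullback (Spec.map (p.appLE U.1 V le_rfl)) hV.fromSpec U.2.fromSpec p := by
    refine IsOpenImmersion.isPullback _ _ _ _ (U.2.SpecMap_appLE_fromSpec p hV le_rfl).symm ?_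
    rw [U.2.opensRange_fromSpec, hV.opensRange_fromSpec]
  have hpush := isPullback_SpecMap_of_isPushout _ _ _ _
    (CommRingCat.isPushout_tensorProduct Γ(T, U.1) C Γ(Z, V))
  let ι : Γ(Z, V) →+* C ⊗[Γ(T, U.1)] Γ(Z, V) :=
    (Algebra.TensorProduct.includeRight : Γ(Z, V) →ₐ[Γ(T, U.1)] C ⊗[Γ(T, U.1)] Γ(Z, V)).toRingHom
  have hP : IsPullback (Spec.map (CommRingCat.ofHom ι) ≫ hV.fromSpec)
      (Spec.map (CommRingCat.ofHom (Algebra.TensorProduct.includeLeftRingHom :
        C →+* C ⊗[Γ(T, U.1)] Γ(Z, V)))) p (Spec.map φ ≫ U.2.fromSpec) :=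
    (hpush.flip.paste_horiz hsq.flip)
  rw [inLocus_of_isPullback c p _ hP]
  have key : (∃ z, z ≫ c = Spec.map (CommRingCat.ofHom ι) ≫ hV.fromSpec) ↔
      RingHom.ker σ ≤ RingHom.ker ι := by
    have hcsq : IsPullback (Spec.map (c.appLE V W le_rfl)) hW.fromSpec hV.fromSpec c := by
      refine IsOpenImmersion.isPullback _ _ _ _ (hV.SpecMap_appLE_fromSpec c hW le_rfl).symm ?_
      rw [hV.opensRange_fromSpec, hW.opensRange_fromSpec]
    constructor
    · rintro ⟨z, hz⟩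
      obtain ⟨χ, hχ⟩ := Spec.map_surjective (hcsq.lift _ z hz.symm)
      have h1 : Spec.map χ ≫ Spec.map (c.appLE V W le_rfl) = Spec.map (CommRingCat.ofHom ι) := by
        rw [hχ]; exact hcsq.lift_fst _ _ _
      rw [← Spec.map_comp] at h1
      have h2 := Spec.map_injective h1
      intro x hx
      have h3 : χ.hom (σ x) = ι x := ConcreteCategory.congr_hom h2 x
      show ι x = 0
      rw [← h3, RingHom.mem_ker.mp hx, map_zero]
    · intro h
      let χ : Γ(Z₀, W) ⟶ CommRingCat.of (C ⊗[Γ(T, U.1)] Γ(Z, V)) :=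
        CommRingCat.ofHom (σ.liftOfSurjective hσ ⟨ι, h⟩)
      refine ⟨Spec.map χ ≫ hW.fromSpec, ?_⟩
      rw [Category.assoc, ← hV.SpecMap_appLE_fromSpec c hW le_rfl, ← Spec.map_comp_assoc]
      congr 2
      ext x
      exact RingHom.liftOfRightInverse_comp_apply σ _ (Function.rightInverse_surjInv hσ) ⟨ι, h⟩ x
  rw [key]
  let φa : Γ(T, U.1) →ₐ[Γ(T, U.1)] C := { φ.hom with commutes' := fun _ => rfl }
  refine Iff.trans ?_ (hI C φa)
  rw [Ideal.map_le_iff_le_comap, RingHom.comap_ker]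
  have : (Algebra.TensorProduct.map φa (AlgHom.id Γ(T, U.1) Γ(Z, V))).toRingHom.comp
      (Algebra.TensorProduct.includeRight :
        Γ(Z, V) →ₐ[Γ(T, U.1)] Γ(T, U.1) ⊗[Γ(T, U.1)] Γ(Z, V)).toRingHom = ι := by
    ext x
    exact (Algebra.TensorProduct.map_tmul φa _ 1 x).trans (by rw [map_one]; rfl)
  rw [this]

/-- For a finite locally free `p : Z ⟶ T` and a closed subscheme `Z₀` of `Z`, the locus of `T` over
which `Z` lies in `Z₀` is a closed subscheme. -/
theorem exists_closed_inLocus [IsClosedImmersion c] (hp : Mor2.IsFinLocFree p) :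
    ∃ (T₀ : Scheme.{u}) (i : T₀ ⟶ T), IsClosedImmersion i ∧
      ∀ (W : Scheme.{u}) (f : W ⟶ T), InLocus c p f ↔ ∃ z, z ≫ i = f := by
  obtain ⟨h1, h2, h3⟩ := hp
  refine Groth.AlgGrp2.exists_closed_of_hasIdeal (inLocus_comp c p) (inLocus_local c p) fun x => ?_
  obtain ⟨_, ⟨U, hU, rfl⟩, hx, -⟩ :=
    T.isBasis_affineOpens.exists_subset_of_mem_open (Set.mem_univ x) isOpen_univ
  exact ⟨⟨U, hU⟩, hx, hasIdeal_inLocus c p ⟨U, hU⟩⟩

end

end Groth.HilbPts
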