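import Mathlib
import Groth.Agent.HilbPts.Locus
import Groth.Prelude.Def_HilbD

/-!
# The Hilbert functor of points: base change, push forward, closed conditions (helper78)
-/

set_option autoImplicit false
set_option linter.style.haveILetI false

universe u

open CategoryTheory CategoryTheory.Limits AlgebraicGeometry

noncomputable section

namespace Groth.HilbPts

/-- two closed subschemes with the same morphisms into them are equal -/
lemma ideal_ext {X : Scheme.{u}} {I J : X.IdealSheafData}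
    (h : ∀ (W : Scheme.{u}) (x : W ⟶ X), I ≤ x.ker ↔ J ≤ x.ker) : I = J := by
  refine le_antisymm ?_ ?_
  · simpa using (h _ J.subschemeι).2 (by simp)
  · simpa using (h _ I.subschemeι).1 (by simp)

lemma le_ker_iff {X W : Scheme.{u}} (I : X.IdealSheafData) (x : W ⟶ X) :
    I ≤ x.ker ↔ ∃ z, z ≫ I.subschemeι = x := by
  rw [exists_fac_iff_ker_le, Scheme.IdealSheafData.ker_subschemeι]

variable {X S : Scheme.{u}} (f : X ⟶ S)

@[reassoc (attr := simp)]
lemma XTmap_fst {T T' : Over S} (g : T' ⟶ T) :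
    PicF.XTmap f g ≫ pullback.fst f T.hom = pullback.fst f T'.hom := by
  rw [PicF.XTmap, pullback.lift_fst, Category.comp_id]

@[reassoc (attr := simp)]
lemma XTmap_proj {T T' : Over S} (g : T' ⟶ T) :
    PicF.XTmap f g ≫ pullback.snd f T.hom = pullback.snd f T'.hom ≫ g.left := by
  rw [PicF.XTmap, pullback.lift_snd]

lemma XTmap_comp {T T' T'' : Over S} (g : T'' ⟶ T') (h : T' ⟶ T) :
    PicF.XTmap f (g ≫ h) = PicF.XTmap f g ≫ PicF.XTmap f h := by
  apply pullback.hom_ext <;> simp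

lemma XTmap_id (T : Over S) : PicF.XTmap f (𝟙 T) = 𝟙 _ := by
  apply pullback.hom_ext <;> simp

lemma isPullback_XTmap {T T' : Over S} (g : T' ⟶ T) :
    IsPullback (PicF.XTmap f g) (PicF.XTproj f T') (PicF.XTproj f T) g.left := by
  refine IsPullback.of_right ?_ (XTmap_proj f g) (IsPullback.of_hasPullback f T.hom)
  rw [XTmap_fst, Over.w g]
  exact IsPullback.of_hasPullback f T'.hom

lemma pull_le_ker {T T' : Over S} (g : T' ⟶ T) (I : (PicF.XT f T).IdealSheafData)
    {W : Scheme.{u}} (x : W ⟶ PicF.XT f T') :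
    HilbD.pull f g I ≤ x.ker ↔ I ≤ (x ≫ PicF.XTmap f g).ker := by
  rw [HilbD.pull, le_ker_iff I, ← exists_fac_iff_ker_le]
  constructor
  · rintro ⟨z, rfl⟩
    exact ⟨z ≫ pullback.fst _ _, by rw [Category.assoc, Category.assoc, pullback.condition]⟩
  · rintro ⟨z, hz⟩
    exact ⟨pullback.lift z x hz, pullback.lift_snd _ _ _⟩

lemma pull_pull {T T' T'' : Over S} (g : T'' ⟶ T') (h : T' ⟶ T) (I : (PicF.XT f T).IdealSheafData) :
    HilbD.pull f g (HilbD.pull f h I) = HilbD.pull f (g ≫ h) I := by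
  refine ideal_ext fun W x => ?_
  rw [pull_le_ker, pull_le_ker, pull_le_ker, XTmap_comp, Category.assoc]

/-- a closed immersion and the subscheme of its ideal give the same map to the base -/
lemma isFinLocFreeOfDeg_ker {Z Y T : Scheme.{u}} (c : Z ⟶ Y) [IsClosedImmersion c] (π : Y ⟶ T)
    (d : ℕ) :
    Mor2.IsFinLocFreeOfDeg d (c.ker.subschemeι ≫ π) ↔ Mor2.IsFinLocFreeOfDeg d (c ≫ π) := by
  have e : c.toImage ≫ c.ker.subschemeι = c := c.toImage_imageι
  have key : c ≫ π = c.toImage ≫ (c.ker.subschemeι ≫ π) := by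
    rw [← Category.assoc, e]
  rw [key]
  generalize c.ker.subschemeι ≫ π = q
  unfold Mor2.IsFinLocFreeOfDeg Mor2.IsFinLocFree
  refine ⟨fun ⟨⟨h1, h2, h3⟩, h4⟩ => ⟨⟨inferInstance, inferInstance, inferInstance⟩, fun y => ?_⟩,
    fun ⟨⟨h1, h2, h3⟩, h4⟩ => ?_⟩
  · rw [Scheme.Hom.finrank_comp_left_of_isIso]; exact h4 y
  · have h1' : IsFinite q := (MorphismProperty.cancel_left_of_respectsIso @IsFinite c.toImage q).mp h1
    have h2' : Flat q := (MorphismProperty.cancel_left_of_respectsIso @Flat c.toImage q).mp h2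
    refine ⟨⟨h1', h2',
      (MorphismProperty.cancel_left_of_respectsIso @LocallyOfFinitePresentation c.toImage q).mp h3⟩,
      fun y => ?_⟩
    rw [← h4 y, Scheme.Hom.finrank_comp_left_of_isIso]

lemma isFinLocFreeOfDeg_of_isPullback {Q P T T' : Scheme.{u}} {a : Q ⟶ P} {q : Q ⟶ T'} {p : P ⟶ T}
    {g : T' ⟶ T} (h : IsPullback a q p g) {d : ℕ} (hp : Mor2.IsFinLocFreeOfDeg d p) :
    Mor2.IsFinLocFreeOfDeg d q := by
  obtain ⟨⟨h1, h2, h3⟩, h4⟩ := hp
  exact ⟨⟨MorphismProperty.of_isPullback h h1, MorphismProperty.of_isPullback h h2,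
    MorphismProperty.of_isPullback h h3⟩,
    fun y => (Scheme.Hom.finrank_of_isPullback a q p g h y).trans (h4 _)⟩

lemma isPullback_pull {T T' : Over S} (g : T' ⟶ T) (I : (PicF.XT f T).IdealSheafData) :
    IsPullback (pullback.fst I.subschemeι (PicF.XTmap f g))
      (pullback.snd I.subschemeι (PicF.XTmap f g) ≫ PicF.XTproj f T')
      (I.subschemeι ≫ PicF.XTproj f T) g.left :=
  (IsPullback.of_hasPullback I.subschemeι (PicF.XTmap f g)).paste_vert (isPullback_XTmap f g)

variable {f} in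
/-- base change of a family -/
def pullObj {d : ℕ} {T T' : Over S} (g : T' ⟶ T) (Z : HilbD.Obj f d T) : HilbD.Obj f d T' :=
  ⟨HilbD.pull f g Z.1,
    (isFinLocFreeOfDeg_ker (pullback.snd Z.1.subschemeι (PicF.XTmap f g)) _ d).2
      (isFinLocFreeOfDeg_of_isPullback (isPullback_pull f g Z.1) Z.2)⟩

/-- the locus where one finite locally free family is contained in a closed subscheme -/
theorem exists_closed_pull_le {T : Over S} (I J : (PicF.XT f T).IdealSheafData)
    (hI : Mor2.IsFinLocFree (I.subschemeι ≫ PicF.XTproj f T)) :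
    ∃ (T₀ : Scheme.{u}) (i : T₀ ⟶ T.left), IsClosedImmersion i ∧ ∀ (T' : Over S) (t : T' ⟶ T),
      HilbD.pull f t J ≤ HilbD.pull f t I ↔ ∃ z, z ≫ i = t.left := by
  obtain ⟨T₀, i, hi, h⟩ := exists_closed_inLocus (pullback.fst I.subschemeι J.subschemeι)
    (I.subschemeι ≫ PicF.XTproj f T) hI
  refine ⟨T₀, i, hi, fun T' t => ?_⟩
  rw [← h, inLocus_of_isPullback _ _ _ (isPullback_pull f t I)]
  have e : HilbD.pull f t I = (pullback.snd I.subschemeι (PicF.XTmap f t)).ker := rfl
  rw [e, pull_le_ker, ← pullback.condition, le_ker_iff]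
  constructor
  · rintro ⟨z, hz⟩
    exact ⟨pullback.lift (pullback.fst _ _) z hz.symm, pullback.lift_fst _ _ _⟩
  · rintro ⟨z, hz⟩
    exact ⟨z ≫ pullback.snd _ _, by rw [Category.assoc, ← pullback.condition, reassoc_of% hz]⟩

/-! ### push forward along a closed immersion -/

section Push

variable {Y : Scheme.{u}} (i : X ⟶ Y) (g : Y ⟶ S)

/-- `X_T ⟶ Y_T` -/
abbrev iMap (T : Over S) : PicF.XT (i ≫ g) T ⟶ PicF.XT g T :=
  pullback.map (i ≫ g) T.hom g T.hom i (𝟙 _) (𝟙 S) (Category.comp_id _) (by simp)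

@[reassoc (attr := simp)]
lemma iMap_fst (T : Over S) :
    iMap i g T ≫ pullback.fst g T.hom = pullback.fst (i ≫ g) T.hom ≫ i :=
  pullback.lift_fst _ _ _

@[reassoc (attr := simp)]
lemma iMap_proj (T : Over S) :
    iMap i g T ≫ pullback.snd g T.hom = pullback.snd (i ≫ g) T.hom :=
  (pullback.lift_snd _ _ _).trans (Category.comp_id _)

lemma isPullback_iMap (T : Over S) :
    IsPullback (iMap i g T) (pullback.fst (i ≫ g) T.hom) (pullback.fst g T.hom) i := by
  refine IsPullback.of_right ?_ (iMap_fst i g T) (IsPullback.of_hasPullback g T.hom).flip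
  rw [show iMap i g T ≫ pullback.snd g T.hom = pullback.snd (i ≫ g) T.hom by
    rw [iMap, pullback.lift_snd, Category.comp_id]]
  exact (IsPullback.of_hasPullback (i ≫ g) T.hom).flip

instance isClosedImmersion_iMap [IsClosedImmersion i] (T : Over S) :
    IsClosedImmersion (iMap i g T) :=
  MorphismProperty.of_isPullback (isPullback_iMap i g T).flip inferInstance

variable [IsClosedImmersion i]

instance mono_iMap (T : Over S) : Mono (iMap i g T) := inferInstance

lemma push_le_ker (T : Over S) (I : (PicF.XT (i ≫ g) T).IdealSheafData) {W : Scheme.{u}}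
    (x : W ⟶ PicF.XT g T) :
    HilbD.push i g T I ≤ x.ker ↔ ∃ y, y ≫ iMap i g T = x ∧ I ≤ y.ker := by
  rw [HilbD.push, ← exists_fac_iff_ker_le]
  constructor
  · rintro ⟨z, rfl⟩
    exact ⟨z ≫ I.subschemeι, Category.assoc _ _ _, (le_ker_iff _ _).2 ⟨z, rfl⟩⟩
  · rintro ⟨y, rfl, hy⟩
    obtain ⟨z, rfl⟩ := (le_ker_iff _ _).1 hy
    exact ⟨z, (Category.assoc _ _ _).symm⟩

lemma push_injective (T : Over S) : Function.Injective (HilbD.push i g T) := by
  intro I J h
  refine ideal_ext fun W y => ?_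
  have := push_le_ker i g T I (y ≫ iMap i g T)
  rw [h, push_le_ker i g T J] at this
  constructor
  · intro hI
    obtain ⟨y', h1, h2⟩ := this.2 ⟨y, rfl, hI⟩
    rw [cancel_mono] at h1; exact h1 ▸ h2
  · intro hJ
    obtain ⟨y', h1, h2⟩ := this.1 ⟨y, rfl, hJ⟩
    rw [cancel_mono] at h1; exact h1 ▸ h2

omit [IsClosedImmersion i] in
lemma iMap_XTmap {T T' : Over S} (t : T' ⟶ T) :
    iMap i g T' ≫ PicF.XTmap g t = PicF.XTmap (i ≫ g) t ≫ iMap i g T := by
  apply pullback.hom_ext <;> simp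

lemma pull_push {T T' : Over S} (t : T' ⟶ T) (I : (PicF.XT (i ≫ g) T).IdealSheafData) :
    HilbD.pull g t (HilbD.push i g T I) = HilbD.push i g T' (HilbD.pull (i ≫ g) t I) := by
  refine ideal_ext fun W x => ?_
  rw [pull_le_ker, push_le_ker, push_le_ker]
  constructor
  · rintro ⟨y, hy, hyI⟩
    have h1 : y ≫ pullback.fst (i ≫ g) T.hom ≫ i ≫ g = x ≫ pullback.snd g T'.hom ≫ T'.hom := by
      have := congrArg (fun m => m ≫ pullback.fst g T.hom ≫ g) hy
      simp only [Category.assoc, iMap_fst_assoc, XTmap_fst_assoc] at this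
      rw [this, pullback.condition]
    let y' : W ⟶ PicF.XT (i ≫ g) T' :=
      pullback.lift (y ≫ pullback.fst _ _) (x ≫ pullback.snd _ _) (by simpa using h1)
    have hy' : y' ≫ iMap i g T' = x := by
      apply pullback.hom_ext
      · have := congrArg (fun m => m ≫ pullback.fst g T.hom) hy
        simp only [Category.assoc, iMap_fst, XTmap_fst] at this
        rw [Category.assoc, iMap_fst, pullback.lift_fst_assoc, Category.assoc, this]
      · rw [Category.assoc, iMap_proj, pullback.lift_snd]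
    refine ⟨y', hy', ?_⟩
    rw [pull_le_ker]
    have : y' ≫ PicF.XTmap (i ≫ g) t = y := by
      rw [← cancel_mono (iMap i g T), Category.assoc, ← iMap_XTmap, reassoc_of% hy', hy]
    rwa [this]
  · rintro ⟨y, rfl, hy⟩
    rw [pull_le_ker] at hy
    exact ⟨_, by rw [Category.assoc, ← iMap_XTmap, Category.assoc], hy⟩

lemma isFinLocFreeOfDeg_push {d : ℕ} {T : Over S} (I : (PicF.XT (i ≫ g) T).IdealSheafData) :
    Mor2.IsFinLocFreeOfDeg d ((HilbD.push i g T I).subschemeι ≫ PicF.XTproj g T) ↔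
      Mor2.IsFinLocFreeOfDeg d (I.subschemeι ≫ PicF.XTproj (i ≫ g) T) := by
  rw [HilbD.push, isFinLocFreeOfDeg_ker (I.subschemeι ≫ iMap i g T), Category.assoc,
    show iMap i g T ≫ PicF.XTproj g T = PicF.XTproj (i ≫ g) T by
      rw [iMap, PicF.XTproj, pullback.lift_snd, Category.comp_id]]

/-- a closed subscheme of `Y_T` inside `X_T` is pushed forward from `X_T` -/
lemma exists_push_eq (T : Over S) (J : (PicF.XT g T).IdealSheafData) (h : (iMap i g T).ker ≤ J) :
    ∃ I, HilbD.push i g T I = J := by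
  obtain ⟨w, hw⟩ := (exists_fac_iff_ker_le (iMap i g T) J.subschemeι).2 (by simpa using h)
  have : IsClosedImmersion (w ≫ iMap i g T) := hw ▸ inferInstance
  have : IsClosedImmersion w := IsClosedImmersion.of_comp_isClosedImmersion w (iMap i g T)
  refine ⟨w.ker, ideal_ext fun W x => ?_⟩
  rw [push_le_ker, le_ker_iff J, ← hw]
  constructor
  · rintro ⟨y, rfl, hy⟩
    obtain ⟨z, rfl⟩ := (exists_fac_iff_ker_le w y).2 hy
    exact ⟨z, (Category.assoc _ _ _).symm⟩
  · rintro ⟨z, rfl⟩
    exact ⟨z ≫ w, Category.assoc _ _ _, z.le_ker_comp w⟩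

omit [IsClosedImmersion i] in
lemma ker_iMap_le_push (T : Over S) (I : (PicF.XT (i ≫ g) T).IdealSheafData) :
    (iMap i g T).ker ≤ HilbD.push i g T I :=
  I.subschemeι.le_ker_comp (iMap i g T)

lemma push_bot (T : Over S) : HilbD.push i g T ⊥ = (iMap i g T).ker := by
  refine ideal_ext fun W x => ?_
  rw [push_le_ker, ← exists_fac_iff_ker_le]
  simp

lemma pull_bot {Y S : Scheme.{u}} (g : Y ⟶ S) {T T' : Over S} (t : T' ⟶ T) :
    HilbD.pull g t ⊥ = ⊥ :=
  ideal_ext fun W x => by simp [pull_le_ker]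

end Push

end Groth.HilbPts
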