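import Mathlib
import Groth.Agent.HilbPts.Basic
import Groth.Agent.MiscGeom97.ClosedDescent
import Groth.Agent.ModPairs.Coprod
import Groth.Agent.AlgGrp2.TorsorQuot

/-!
# The Hilbert functor of points is a Zariski sheaf and an fpqc sheaf (helper78)
-/

set_option autoImplicit false
set_option linter.style.haveILetI false

universe u

open CategoryTheory CategoryTheory.Limits AlgebraicGeometry
open Groth.Pi1Desc (IsCover)

noncomputable section

namespace Groth.HilbPts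

/-- factoring through a closed immersion is local -/
lemma exists_fac_of_cover {X Y Z : Scheme.{u}} (c : X ⟶ Z) [IsClosedImmersion c] (g : Y ⟶ Z)
    (𝒱 : Scheme.OpenCover.{u} Y) (h : ∀ i, ∃ z, z ≫ c = 𝒱.f i ≫ g) : ∃ z, z ≫ c = g := by
  choose z hz using h
  refine ⟨Scheme.Cover.glueMorphisms 𝒱 z fun i j => ?_, Scheme.Cover.hom_ext 𝒱 _ _ fun i => ?_⟩
  · rw [← cancel_mono c, Category.assoc, Category.assoc, hz, hz, pullback.condition_assoc]
  · rw [Scheme.Cover.ι_glueMorphisms_assoc, hz]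

lemma isPullback_sigma {ι : Type u} {U : ι → Scheme.{u}} (I : ∀ i, (U i).IdealSheafData) (i : ι)
    {W : Scheme.{u}} (a : W ⟶ U i) :
    (∃ z, z ≫ Limits.Sigma.map (fun i => (I i).subschemeι) = a ≫ Sigma.ι U i) ↔ I i ≤ a.ker := by
  have hp := Groth.ModPairs.isPullback_sigmaMap (fun i => (I i).subschemeι) i
  rw [le_ker_iff]
  constructor
  · rintro ⟨z, hz⟩
    exact ⟨hp.lift a z hz.symm, hp.lift_fst _ _ _⟩
  · rintro ⟨z, hz⟩
    exact ⟨z ≫ Sigma.ι (fun i => (I i).subscheme) i, by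
      rw [Category.assoc, ← hp.w, reassoc_of% hz]⟩

lemma fac_piece {Y : Scheme.{u}} {ι : Type u} {U : ι → Scheme.{u}} (I : ∀ i, (U i).IdealSheafData)
    (u : ∀ i, U i ⟶ Y)
    (h : ∀ (i j : ι) (W : Scheme.{u}) (a : W ⟶ U i) (b : W ⟶ U j),
      a ≫ u i = b ≫ u j → I i ≤ a.ker → I j ≤ b.ker) (k l : ι) {W : Scheme.{u}}
    (a : W ⟶ (I l).subscheme) (b : W ⟶ U k) (key : (a ≫ (I l).subschemeι) ≫ u l = b ≫ u k)
    {m : W ⟶ ∐ U} (hb : b ≫ Sigma.ι U k = m) :
    ∃ z, z ≫ Limits.Sigma.map (fun i => (I i).subschemeι) = m :=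
  hb ▸ (isPullback_sigma I k b).2 (h l k W (a ≫ (I l).subschemeι) b key ((le_ker_iff _ _).2 ⟨a, rfl⟩))

/-- closed subschemes glue along open covers -/
theorem exists_ideal_glue {Y : Scheme.{u}} {ι : Type u} (U : ι → Scheme.{u}) (u : ∀ i, U i ⟶ Y)
    [∀ i, IsOpenImmersion (u i)] (hu : ∀ y, ∃ i z, u i z = y)
    (I : ∀ i, (U i).IdealSheafData)
    (h : ∀ (i j : ι) (W : Scheme.{u}) (a : W ⟶ U i) (b : W ⟶ U j),
      a ≫ u i = b ≫ u j → I i ≤ a.ker → I j ≤ b.ker) :
    ∃ J : Y.IdealSheafData, ∀ (i : ι) (W : Scheme.{u}) (a : W ⟶ U i),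
      J ≤ (a ≫ u i).ker ↔ I i ≤ a.ker := by
  have hι : ∀ l, IsOpenImmersion (Sigma.ι (fun i => (I i).subscheme) l) := fun l =>
    (sigmaOpenCover fun i => (I i).subscheme).map_prop l
  let p : ∐ U ⟶ Y := Sigma.desc u
  haveI : Flat p := IsZariskiLocalAtSource.sigmaDesc fun i => inferInstance
  haveI : LocallyOfFinitePresentation p := IsZariskiLocalAtSource.sigmaDesc fun i => inferInstance
  haveI : Surjective p := ⟨fun y => by
    obtain ⟨i, z, rfl⟩ := hu y
    exact ⟨Sigma.ι U i z, by rw [← Scheme.Hom.comp_apply, Sigma.ι_desc]⟩⟩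
  let c := Limits.Sigma.map fun i => (I i).subschemeι
  haveI : IsClosedImmersion c :=
    Groth.ModPairs.sigmaMap_of_local (P := @IsClosedImmersion) _ fun i => inferInstance
  obtain ⟨Z, j, q, hj, hpb⟩ := Groth.Pi1Desc.exists_closed_descent p c fun T v x e => by
    refine exists_fac_of_cover c x (Scheme.Cover.mkOfCovers ι (fun k => pullback x (Sigma.ι U k))
      (fun k => pullback.fst _ _) (fun t => ?_) fun k => inferInstance) fun k => ?_
    · obtain ⟨k, y, hy⟩ := (sigmaOpenCover U).exists_eq (x t)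
      obtain ⟨w, hw, -⟩ := Scheme.Pullback.exists_preimage_pullback t y hy.symm
      exact ⟨k, w, hw⟩
    let v' := (pullback.fst x (Sigma.ι U k)) ≫ v
    refine exists_fac_of_cover c _ (Scheme.Cover.mkOfCovers ι
      (fun l => pullback v' (Sigma.ι (fun i => (I i).subscheme) l))
      (fun l => pullback.fst _ _) (fun t => ?_)
      fun l => MorphismProperty.pullback_fst (P := @IsOpenImmersion) _ _ (hι l)) fun l => ?_
    · obtain ⟨l, y, hy⟩ := (sigmaOpenCover fun i => (I i).subscheme).exists_eq (v' t)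
      obtain ⟨w, hw, -⟩ := Scheme.Pullback.exists_preimage_pullback t y hy.symm
      exact ⟨l, w, hw⟩
    let r := pullback.fst v' (Sigma.ι (fun i => (I i).subscheme) l)
    let b := r ≫ pullback.snd x (Sigma.ι U k)
    let a := pullback.snd v' (Sigma.ι (fun i => (I i).subscheme) l)
    have hb : b ≫ Sigma.ι U k = r ≫ pullback.fst _ _ ≫ x := by
      simp [b, pullback.condition]
    have ha : a ≫ Sigma.ι (fun i => (I i).subscheme) l = r ≫ pullback.fst _ _ ≫ v :=
      pullback.condition.symm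
    have key : (a ≫ (I l).subschemeι) ≫ u l = b ≫ u k := by
      have h1 : b ≫ u k = r ≫ pullback.fst _ _ ≫ x ≫ p := by
        rw [← Sigma.ι_desc u k, reassoc_of% hb]
      have h2 : (a ≫ (I l).subschemeι) ≫ u l = r ≫ pullback.fst _ _ ≫ v ≫ c ≫ p := by
        rw [← reassoc_of% ha]; simp [c, p]
      rw [h1, h2, e]
    exact fac_piece I u h k l a b key hb
  refine ⟨j.ker, fun i W a => ?_⟩
  rw [← exists_fac_iff_ker_le, ← isPullback_sigma I i a, ← Sigma.ι_desc u i]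
  constructor
  · rintro ⟨z, hz⟩
    exact ⟨hpb.lift z (a ≫ Sigma.ι U i) (by rw [hz, Category.assoc]), hpb.lift_snd _ _ _⟩
  · rintro ⟨z, hz⟩
    exact ⟨z ≫ q, by rw [Category.assoc, hpb.w, reassoc_of% hz]⟩

variable {X S : Scheme.{u}} (f : X ⟶ S)

/-- a piece of an open cover of `T` over `S` -/
abbrev piece (T : Over S) (𝒰 : Scheme.OpenCover.{u} T.left) (i : 𝒰.I₀) : Over S :=
  Over.mk (𝒰.f i ≫ T.hom)

/-- the inclusion of a piece -/
abbrev pieceHom (T : Over S) (𝒰 : Scheme.OpenCover.{u} T.left) (i : 𝒰.I₀) : piece T 𝒰 i ⟶ T :=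
  Over.homMk (𝒰.f i) rfl

instance isOpenImmersion_XTmap_piece (T : Over S) (𝒰 : Scheme.OpenCover.{u} T.left) (i : 𝒰.I₀) :
    IsOpenImmersion (PicF.XTmap f (pieceHom T 𝒰 i)) :=
  MorphismProperty.of_isPullback (isPullback_XTmap f (pieceHom T 𝒰 i)).flip
    (inferInstanceAs (IsOpenImmersion (𝒰.f i)))

lemma exists_mem_piece (T : Over S) (𝒰 : Scheme.OpenCover.{u} T.left) (p : PicF.XT f T) :
    ∃ i z, PicF.XTmap f (pieceHom T 𝒰 i) z = p := by
  obtain ⟨i, y, hy⟩ := 𝒰.exists_eq (PicF.XTproj f T p)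
  have h := Scheme.image_preimage_eq_of_isPullback (isPullback_XTmap f (pieceHom T 𝒰 i)).flip
    Set.univ
  simp only [Set.preimage_univ, Set.image_univ] at h
  have hp : p ∈ PicF.XTproj f T ⁻¹' Set.range (pieceHom T 𝒰 i).left := ⟨y, hy⟩
  rw [← h] at hp
  exact ⟨i, hp⟩

variable {f}

lemma le_ker_iff_pieces {T : Over S} (𝒰 : Scheme.OpenCover.{u} T.left)
    (I : (PicF.XT f T).IdealSheafData) {W : Scheme.{u}} (x : W ⟶ PicF.XT f T) :
    I ≤ x.ker ↔ ∀ i, HilbD.pull f (pieceHom T 𝒰 i) I ≤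
      (pullback.snd x (PicF.XTmap f (pieceHom T 𝒰 i))).ker := by
  constructor
  · intro h i
    rw [pull_le_ker, ← pullback.condition]
    exact le_trans h (Scheme.Hom.le_ker_comp _ x)
  · intro h
    rw [le_ker_iff]
    refine exists_fac_of_cover _ x (Scheme.Cover.mkOfCovers 𝒰.I₀
      (fun i => pullback x (PicF.XTmap f (pieceHom T 𝒰 i))) (fun i => pullback.fst _ _)
      (fun t => ?_) fun i => inferInstance) fun i => ?_
    · obtain ⟨i, y, hy⟩ := exists_mem_piece f T 𝒰 (x t)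
      obtain ⟨w, hw, -⟩ := Scheme.Pullback.exists_preimage_pullback t y hy.symm
      exact ⟨i, w, hw⟩
    have := (pull_le_ker f (pieceHom T 𝒰 i) I _).1 (h i)
    rw [le_ker_iff] at this
    obtain ⟨z, hz⟩ := this
    exact ⟨z, hz.trans pullback.condition.symm⟩

lemma eq_of_pieces {T : Over S} (𝒰 : Scheme.OpenCover.{u} T.left)
    {I J : (PicF.XT f T).IdealSheafData}
    (h : ∀ i, HilbD.pull f (pieceHom T 𝒰 i) I = HilbD.pull f (pieceHom T 𝒰 i) J) : I = J :=
  ideal_ext fun W x => by simp only [le_ker_iff_pieces 𝒰, h]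

variable {d : ℕ}

lemma isFinLocFreeOfDeg_of_cover {Z T : Scheme.{u}} (q : Z ⟶ T) (𝒰 : Scheme.OpenCover.{u} T)
    (h : ∀ i, Mor2.IsFinLocFreeOfDeg d (pullback.snd q (𝒰.f i))) : Mor2.IsFinLocFreeOfDeg d q := by
  have h1 : IsFinite q := IsZariskiLocalAtTarget.of_openCover 𝒰 fun i => (h i).1.1
  have h2 : Flat q := IsZariskiLocalAtTarget.of_openCover 𝒰 fun i => (h i).1.2.1
  refine ⟨⟨h1, h2, IsZariskiLocalAtTarget.of_openCover 𝒰 fun i => (h i).1.2.2⟩, fun y => ?_⟩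
  obtain ⟨i, z, rfl⟩ := 𝒰.exists_eq y
  rw [← Scheme.Hom.finrank_pullback_snd q (𝒰.f i) z]
  exact (h i).2 z

/-- `Hilb^d` is a Zariski sheaf -/
theorem exists_obj_glue {T : Over S} (𝒰 : Scheme.OpenCover.{u} T.left)
    (Z : ∀ i, HilbD.Obj f d (piece T 𝒰 i))
    (h : ∀ (i j : 𝒰.I₀) (W : Over S) (a : W ⟶ piece T 𝒰 i) (b : W ⟶ piece T 𝒰 j),
      a ≫ pieceHom T 𝒰 i = b ≫ pieceHom T 𝒰 j → HilbD.pull f a (Z i).1 = HilbD.pull f b (Z j).1) :
    ∃ I : HilbD.Obj f d T, ∀ i, HilbD.pull f (pieceHom T 𝒰 i) I.1 = (Z i).1 := by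
  obtain ⟨J, hJ⟩ := exists_ideal_glue (fun i => PicF.XT f (piece T 𝒰 i))
    (fun i => PicF.XTmap f (pieceHom T 𝒰 i)) (exists_mem_piece f T 𝒰) (fun i => (Z i).1)
    fun i j W a b hab hi => by
    let W' : Over S := Over.mk ((a ≫ PicF.XTproj f (piece T 𝒰 i)) ≫ (piece T 𝒰 i).hom)
    let α : W' ⟶ piece T 𝒰 i := Over.homMk (a ≫ PicF.XTproj f (piece T 𝒰 i)) rfl
    have e : (a ≫ PicF.XTproj f (piece T 𝒰 i)) ≫ 𝒰.f i =
        (b ≫ PicF.XTproj f (piece T 𝒰 j)) ≫ 𝒰.f j := by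
      have := congrArg (fun m => m ≫ pullback.snd f T.hom) hab
      simp only [Category.assoc, XTmap_proj] at this
      rw [Category.assoc, Category.assoc]
      exact this
    let β : W' ⟶ piece T 𝒰 j := Over.homMk (b ≫ PicF.XTproj f (piece T 𝒰 j)) (by
      show (b ≫ _) ≫ 𝒰.f j ≫ T.hom = (a ≫ _) ≫ 𝒰.f i ≫ T.hom
      rw [← Category.assoc, ← e, Category.assoc])
    have hαβ : α ≫ pieceHom T 𝒰 i = β ≫ pieceHom T 𝒰 j := by ext; exact e
    let w : W ⟶ PicF.XT f W' := pullback.lift (a ≫ pullback.fst _ _) (𝟙 _) (by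
      rw [Category.assoc, pullback.condition, Category.id_comp, ← Category.assoc]
      rfl)
    have hw1 : w ≫ pullback.fst f W'.hom = a ≫ pullback.fst _ _ := pullback.lift_fst _ _ _
    have hw2 : w ≫ pullback.snd f W'.hom = 𝟙 _ := pullback.lift_snd _ _ _
    have hwa : w ≫ PicF.XTmap f α = a := by
      apply pullback.hom_ext
      · rw [Category.assoc, XTmap_fst, hw1]
      · rw [Category.assoc, XTmap_proj, reassoc_of% hw2]
        rfl
    have hwb : w ≫ PicF.XTmap f β = b := by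
      apply pullback.hom_ext
      · rw [Category.assoc, XTmap_fst, hw1]
        have := congrArg (fun m => m ≫ pullback.fst f T.hom) hab
        simp only [Category.assoc, XTmap_fst] at this
        exact this
      · rw [Category.assoc, XTmap_proj, reassoc_of% hw2]
        rfl
    rw [← hwa, ← pull_le_ker f α, h i j W' α β hαβ, pull_le_ker, hwb] at hi
    exact hi
  have key : ∀ i, HilbD.pull f (pieceHom T 𝒰 i) J = (Z i).1 := fun i =>
    ideal_ext fun W x => by rw [pull_le_ker]; exact hJ i W x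
  refine ⟨⟨J, isFinLocFreeOfDeg_of_cover _ 𝒰 fun i => ?_⟩, key⟩
  have hp := isPullback_pull f (pieceHom T 𝒰 i) J
  have hZ : Mor2.IsFinLocFreeOfDeg d
      (pullback.snd J.subschemeι (PicF.XTmap f (pieceHom T 𝒰 i)) ≫ PicF.XTproj f (piece T 𝒰 i)) := by
    rw [← isFinLocFreeOfDeg_ker]
    have e := (Z i).2
    rw [← key i] at e
    exact e
  exact isFinLocFreeOfDeg_of_isPullback
    (IsPullback.of_horiz_isIso (fst := hp.isoPullback.inv) (snd := pullback.snd _ _) (g := 𝟙 _)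
      ⟨by rw [hp.isoPullback_inv_snd]; exact (Category.comp_id _).symm⟩) hZ

end Groth.HilbPts
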