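import Mathlib
import Groth.Agent.HilbPts.Glue
import Groth.Agent.GrassRep.Stable

/-!
# The Hilbert functor of points of an affine scheme over an affine base is representable (helper78)
-/

set_option autoImplicit false
set_option linter.style.haveILetI false

universe u

open CategoryTheory CategoryTheory.Limits AlgebraicGeometry TensorProduct
open Groth.GrassRep (Pt ptMap)

noncomputable section

namespace Groth.HilbPts

/-- factoring through a closed subscheme of an affine scheme -/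
lemma exists_fac_quotient_iff {P : CommRingCat.{u}} (J : Ideal P) {W : Scheme.{u}} (x : W ⟶ Spec P) :
    (∃ z, z ≫ Spec.map (CommRingCat.ofHom (Ideal.Quotient.mk J)) = x) ↔
      J ≤ RingHom.ker ((Scheme.ΓSpecIso P).inv ≫ x.appTop).hom := by
  have key : W.toSpecΓ ≫ Spec.map ((Scheme.ΓSpecIso P).inv ≫ x.appTop) = x := by
    rw [Spec.map_comp, ← Category.assoc, ← Scheme.toSpecΓ_naturality, Category.assoc,
      toSpecΓ_SpecMap_ΓSpecIso_inv, Category.comp_id]
  constructor
  · rintro ⟨z, rfl⟩ j hj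
    show ((Scheme.ΓSpecIso P).inv ≫ (z ≫ _).appTop).hom j = 0
    rw [Scheme.Hom.comp_appTop, ← Scheme.ΓSpecIso_inv_naturality_assoc]
    show (((Scheme.ΓSpecIso _).inv ≫ z.appTop).hom) (Ideal.Quotient.mk J j) = 0
    rw [Ideal.Quotient.eq_zero_iff_mem.mpr hj, map_zero]
  · intro h
    refine ⟨W.toSpecΓ ≫ Spec.map (CommRingCat.ofHom (Ideal.Quotient.lift J _ h)), ?_⟩
    conv_rhs => rw [← key]
    rw [Category.assoc, ← Spec.map_comp]
    rfl

variable {R : Type u} [CommRing R] (B : Type u) [CommRing B] [Algebra R B]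

/-- `Spec B ⟶ Spec R` -/
abbrev f₀ : Spec (CommRingCat.of B) ⟶ Spec (CommRingCat.of R) :=
  Spec.map (CommRingCat.ofHom (algebraMap R B))

variable {B}

/-- `X_A = Spec (A ⊗ B)` -/
def eA (A : CommAlgCat.{u} R) :
    Spec (CommRingCat.of (A ⊗[R] B)) ≅ PicF.XT (f₀ B) (Pt A) :=
  ((isPullback_SpecMap_of_isPushout _ _ _ _
    (CommRingCat.isPushout_tensorProduct R A B)).flip).isoPullback

@[reassoc]
lemma eA_hom_fst (A : CommAlgCat.{u} R) :
    (eA (B := B) A).hom ≫ pullback.fst (f₀ B) (Pt A).hom =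
      Spec.map (CommRingCat.ofHom (Algebra.TensorProduct.includeRight : B →ₐ[R] A ⊗[R] B).toRingHom) :=
  IsPullback.isoPullback_hom_fst _

@[reassoc]
lemma eA_hom_snd (A : CommAlgCat.{u} R) :
    (eA (B := B) A).hom ≫ pullback.snd (f₀ B) (Pt A).hom =
      Spec.map (CommRingCat.ofHom (Algebra.TensorProduct.includeLeftRingHom : A →+* A ⊗[R] B)) :=
  IsPullback.isoPullback_hom_snd _

variable {A : CommAlgCat.{u} R}

/-- the closed immersion of an ideal -/
def subHom (J : Ideal (A ⊗[R] B)) :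
    Spec (CommRingCat.of ((A ⊗[R] B) ⧸ J)) ⟶ PicF.XT (f₀ B) (Pt A) :=
  Spec.map (CommRingCat.ofHom (Ideal.Quotient.mk J)) ≫ (eA A).hom

instance isClosedImmersion_subHom (J : Ideal (A ⊗[R] B)) : IsClosedImmersion (subHom J) := by
  have : IsClosedImmersion (Spec.map (CommRingCat.ofHom (Ideal.Quotient.mk J))) :=
    IsClosedImmersion.spec_of_surjective _ Ideal.Quotient.mk_surjective
  exact inferInstanceAs (IsClosedImmersion (_ ≫ (eA A).hom))

/-- the ideal sheaf of an ideal -/
def sub (J : Ideal (A ⊗[R] B)) : (PicF.XT (f₀ B) (Pt A)).IdealSheafData := (subHom J).ker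

/-- the ring map of a morphism to `X_A` -/
def psi {W : Scheme.{u}} (x : W ⟶ PicF.XT (f₀ B) (Pt A)) : CommRingCat.of (A ⊗[R] B) ⟶ Γ(W, ⊤) :=
  (Scheme.ΓSpecIso _).inv ≫ (x ≫ (eA A).inv).appTop

lemma sub_le_ker (J : Ideal (A ⊗[R] B)) {W : Scheme.{u}} (x : W ⟶ PicF.XT (f₀ B) (Pt A)) :
    sub J ≤ x.ker ↔ J ≤ RingHom.ker (psi x).hom := by
  rw [sub, ← exists_fac_iff_ker_le]
  refine Iff.trans ?_ (exists_fac_quotient_iff (P := CommRingCat.of (A ⊗[R] B)) J (x ≫ (eA A).inv))
  constructor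
  · rintro ⟨z, rfl⟩
    exact ⟨z, by rw [subHom, Category.assoc, Category.assoc, Iso.hom_inv_id, Category.comp_id]⟩
  · rintro ⟨z, hz⟩
    exact ⟨z, by rw [subHom, reassoc_of% hz, Iso.inv_hom_id, Category.comp_id]⟩

lemma psi_subHom (J : Ideal (A ⊗[R] B)) :
    psi (subHom J) = CommRingCat.ofHom (Ideal.Quotient.mk J) ≫ (Scheme.ΓSpecIso _).inv := by
  rw [psi, subHom, Category.assoc, Iso.hom_inv_id, Category.comp_id, Scheme.ΓSpecIso_inv_naturality]

lemma sub_injective : Function.Injective (sub (A := A) (B := B)) := by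
  have key : ∀ J J' : Ideal (A ⊗[R] B), sub J ≤ sub J' → J ≤ J' := by
    intro J J' h x hx
    have h1 := (sub_le_ker J (subHom J')).1 h hx
    rw [RingHom.mem_ker, psi_subHom] at h1
    have h2 := (ConcreteCategory.bijective_of_isIso (Scheme.ΓSpecIso
      (CommRingCat.of ((A ⊗[R] B) ⧸ J'))).inv).1 (h1.trans (map_zero _).symm)
    exact Ideal.Quotient.eq_zero_iff_mem.mp h2
  exact fun J J' h => le_antisymm (key _ _ h.le) (key _ _ h.ge)

lemma exists_sub_eq (I : (PicF.XT (f₀ B) (Pt A)).IdealSheafData) : ∃ J, sub J = I := by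
  obtain ⟨J, e, he⟩ := IsClosedImmersion.Spec_iff.mp
    (inferInstance : IsClosedImmersion (I.subschemeι ≫ (eA (B := B) A).inv))
  refine ⟨J, ?_⟩
  have h : I.subschemeι = e.hom ≫ subHom J := by
    rw [subHom, ← reassoc_of% he, Iso.inv_hom_id, Category.comp_id]
  rw [sub, ← Scheme.IdealSheafData.ker_subschemeι I, h, Scheme.Hom.ker_comp_of_isIso]

lemma XTmap_eA {C : CommAlgCat.{u} R} (φ : A ⟶ C) :
    (eA (B := B) C).hom ≫ PicF.XTmap (f₀ B) (ptMap φ) =
      Spec.map (CommRingCat.ofHom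
        (Algebra.TensorProduct.map φ.hom (AlgHom.id R B)).toRingHom) ≫ (eA A).hom := by
  apply pullback.hom_ext
  · rw [Category.assoc, XTmap_fst, eA_hom_fst, Category.assoc, eA_hom_fst, ← Spec.map_comp]
    congr 1
    ext b
    exact ((Algebra.TensorProduct.map_tmul φ.hom (AlgHom.id R B) 1 b).trans (by simp)).symm
  · rw [Category.assoc, XTmap_proj, eA_hom_snd_assoc, Category.assoc, eA_hom_snd, ← Spec.map_comp]
    show Spec.map _ ≫ Spec.map _ = _
    rw [← Spec.map_comp]
    congr 1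

lemma pull_sub {C : CommAlgCat.{u} R} (φ : A ⟶ C) (J : Ideal (A ⊗[R] B)) :
    HilbD.pull (f₀ B) (ptMap φ) (sub J) =
      sub (J.map (Algebra.TensorProduct.map φ.hom (AlgHom.id R B))) := by
  refine ideal_ext fun W x => ?_
  rw [pull_le_ker, sub_le_ker, sub_le_ker, Ideal.map_le_iff_le_comap]
  have : psi (x ≫ PicF.XTmap (f₀ B) (ptMap φ)) = CommRingCat.ofHom
      (Algebra.TensorProduct.map φ.hom (AlgHom.id R B)).toRingHom ≫ psi x := by
    have e : (x ≫ PicF.XTmap (f₀ B) (ptMap φ)) ≫ (eA A).inv = (x ≫ (eA C).inv) ≫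
        Spec.map (CommRingCat.ofHom (Algebra.TensorProduct.map φ.hom (AlgHom.id R B)).toRingHom) := by
      rw [Iso.comp_inv_eq, Category.assoc, Category.assoc, ← XTmap_eA, Iso.inv_hom_id_assoc]
    rw [psi, psi, e, Scheme.Hom.comp_appTop, ← Scheme.ΓSpecIso_inv_naturality_assoc]
  rw [this]
  rfl

/-- the numerical condition on an ideal -/
def IsDeg (d : ℕ) (J : Ideal (A ⊗[R] B)) : Prop :=
  Module.Finite A ((A ⊗[R] B) ⧸ J) ∧ Module.Projective A ((A ⊗[R] B) ⧸ J) ∧
    ∀ p : PrimeSpectrum A, Module.rankAtStalk (R := A) ((A ⊗[R] B) ⧸ J) p = d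

lemma isFinLocFreeOfDeg_sub {d : ℕ} (J : Ideal (A ⊗[R] B)) :
    Mor2.IsFinLocFreeOfDeg d ((sub J).subschemeι ≫ PicF.XTproj (f₀ B) (Pt A)) ↔ IsDeg d J := by
  rw [sub, isFinLocFreeOfDeg_ker]
  have e : subHom J ≫ PicF.XTproj (f₀ B) (Pt A) =
      Spec.map (CommRingCat.ofHom (algebraMap A ((A ⊗[R] B) ⧸ J))) := by
    rw [subHom, Category.assoc, PicF.XTproj, eA_hom_snd, ← Spec.map_comp]
    rfl
  rw [e]
  constructor
  · rintro ⟨⟨h1, h2, h3⟩, h4⟩
    rw [IsFinite.SpecMap_iff, CommRingCat.hom_ofHom, RingHom.finite_algebraMap] at h1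
    rw [Flat.SpecMap_iff, CommRingCat.hom_ofHom, RingHom.flat_algebraMap_iff] at h2
    rw [HasRingHomProperty.Spec_iff (P := @LocallyOfFinitePresentation), CommRingCat.hom_ofHom,
      RingHom.finitePresentation_algebraMap] at h3
    haveI := Module.FinitePresentation.of_finite_of_finitePresentation (R := A)
      (S := (A ⊗[R] B) ⧸ J)
    refine ⟨h1, Module.Flat.projective_of_finitePresentation, fun p => ?_⟩
    rw [← Scheme.Hom.finrank_SpecMap_algebraMap]
    exact h4 p
  · rintro ⟨h1, h2, h3⟩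
    haveI := Module.finitePresentation_of_projective A ((A ⊗[R] B) ⧸ J)
    refine ⟨⟨?_, ?_, ?_⟩, fun p => ?_⟩
    · rw [IsFinite.SpecMap_iff, CommRingCat.hom_ofHom, RingHom.finite_algebraMap]; exact h1
    · rw [Flat.SpecMap_iff, CommRingCat.hom_ofHom, RingHom.flat_algebraMap_iff]; infer_instance
    · rw [HasRingHomProperty.Spec_iff (P := @LocallyOfFinitePresentation), CommRingCat.hom_ofHom,
        RingHom.finitePresentation_algebraMap]
      exact Algebra.FinitePresentation.of_finitePresentation A _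
    · rw [Scheme.Hom.finrank_SpecMap_algebraMap]; exact h3 p

variable (B) in
/-- being an ideal, for a point of the Grassmannian of `B` -/
def IsIdeal {k : ℕ} (A : CommAlgCat.{u} R) (N : Module.Grassmannian A (A ⊗[R] B) k) : Prop :=
  ∀ (b : B) (x : A ⊗[R] B), x ∈ N.toSubmodule → ((1 : A) ⊗ₜ[R] b) * x ∈ N.toSubmodule

/-- the ideal of a stable point -/
def idealOf {k : ℕ} (N : Module.Grassmannian A (A ⊗[R] B) k) (h : IsIdeal B A N) :
    Ideal (A ⊗[R] B) where
  carrier := N.toSubmodule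
  add_mem' := N.toSubmodule.add_mem
  zero_mem' := N.toSubmodule.zero_mem
  smul_mem' c x hx := by
    show c * x ∈ N.toSubmodule
    induction c using TensorProduct.induction_on with
    | zero => rw [zero_mul]; exact N.toSubmodule.zero_mem
    | tmul a b =>
      have : (a ⊗ₜ[R] b) * x = a • (((1 : A) ⊗ₜ[R] b) * x) := by
        rw [← smul_mul_assoc, TensorProduct.smul_tmul', smul_eq_mul, mul_one]
      rw [this]
      exact N.toSubmodule.smul_mem _ (h b x hx)
    | add c c' hc hc' => rw [add_mul]; exact N.toSubmodule.add_mem hc hc'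

lemma isDeg_idealOf {k : ℕ} (N : Module.Grassmannian A (A ⊗[R] B) k) (h : IsIdeal B A N) :
    IsDeg k (idealOf N h) := by
  have e : (idealOf N h).restrictScalars A = N.toSubmodule := rfl
  let q : ((A ⊗[R] B) ⧸ N.toSubmodule) ≃ₗ[A] ((A ⊗[R] B) ⧸ idealOf N h) :=
    (Submodule.quotEquivOfEq _ _ e.symm).trans
      (Submodule.Quotient.restrictScalarsEquiv A (idealOf N h))
  refine ⟨Module.Finite.equiv q, ?_, fun p => ?_⟩
  · haveI := N.projective_quotient
    exact Module.Projective.of_equiv q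
  · rw [← Module.rankAtStalk_eq_of_equiv q]; exact N.rankAtStalk_eq p

/-- the point of an ideal -/
def pointOf {k : ℕ} (J : Ideal (A ⊗[R] B)) (hJ : IsDeg k J) :
    Module.Grassmannian A (A ⊗[R] B) k where
  toSubmodule := J.restrictScalars A
  finite_quotient :=
    haveI := hJ.1
    Module.Finite.equiv (Submodule.Quotient.restrictScalarsEquiv A J).symm
  projective_quotient :=
    haveI := hJ.2.1
    Module.Projective.of_equiv (Submodule.Quotient.restrictScalarsEquiv A J).symm
  rankAtStalk_eq p := by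
    rw [Module.rankAtStalk_eq_of_equiv (Submodule.Quotient.restrictScalarsEquiv A J)]
    exact hJ.2.2 p

lemma isIdeal_pointOf {k : ℕ} (J : Ideal (A ⊗[R] B)) (hJ : IsDeg k J) :
    IsIdeal B A (pointOf J hJ) := fun b x hx => J.mul_mem_left _ hx

lemma idealOf_map {k : ℕ} {C : CommAlgCat.{u} R} (φ : A ⟶ C) (N : Module.Grassmannian A (A ⊗[R] B) k)
    (h : IsIdeal B A N) (h' : IsIdeal B C (Module.Grassmannian.map φ.hom N)) :
    idealOf (Module.Grassmannian.map φ.hom N) h' =
      (idealOf N h).map (Algebra.TensorProduct.map φ.hom (AlgHom.id R B)) := by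
  have hι : ∀ z : A ⊗[R] B, Groth.GrassRep.iota φ.hom z =
      Algebra.TensorProduct.map φ.hom (AlgHom.id R B) z := by
    intro z
    induction z using TensorProduct.induction_on with
    | zero => simp
    | tmul a b => simp
    | add x y hx hy => simp only [map_add, hx, hy]
  refine le_antisymm (fun y hy => ?_) ?_
  · change y ∈ (Module.Grassmannian.map φ.hom N).toSubmodule at hy
    rw [Groth.GrassRep.map_eq_span] at hy
    induction hy using Submodule.span_induction with
    | mem z hz =>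
      obtain ⟨w, hw, rfl⟩ := hz
      rw [hι]
      exact Ideal.mem_map_of_mem _ hw
    | zero => exact zero_mem _
    | add x z _ _ hx hz => exact add_mem hx hz
    | smul c x _ hx =>
      exact (Submodule.restrictScalars C ((idealOf N h).map
        (Algebra.TensorProduct.map φ.hom (AlgHom.id R B)))).smul_mem c hx
  · rw [Ideal.map_le_iff_le_comap]
    intro z hz
    show Algebra.TensorProduct.map φ.hom (AlgHom.id R B) z ∈ (Module.Grassmannian.map φ.hom N).toSubmodule
    rw [← hι]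
    exact Groth.GrassRep.iota_mem_map φ.hom N hz

/-- the bijection between stable points and families of closed subschemes -/
def objEquiv (d : ℕ) (A : CommAlgCat.{u} R) :
    {N : Module.Grassmannian A (A ⊗[R] B) d // IsIdeal B A N} ≃ HilbD.Obj (f₀ B) d (Pt A) :=
  Equiv.ofBijective
    (fun N => ⟨sub (idealOf N.1 N.2), (isFinLocFreeOfDeg_sub _).2 (isDeg_idealOf N.1 N.2)⟩) (by
      refine ⟨fun N N' h => ?_, fun I => ?_⟩
      · have h1 := sub_injective (congrArg Subtype.val h)
        refine Subtype.ext (Module.Grassmannian.ext ?_)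
        exact SetLike.ext' (congrArg (fun J : Ideal (A ⊗[R] B) => (J : Set (A ⊗[R] B))) h1 :)
      · obtain ⟨J, hJ⟩ := exists_sub_eq I.1
        have hd : IsDeg d J := (isFinLocFreeOfDeg_sub J).1 (hJ ▸ I.2)
        exact ⟨⟨pointOf J hd, isIdeal_pointOf J hd⟩, Subtype.ext hJ⟩)

lemma pull_objEquiv {d : ℕ} {C : CommAlgCat.{u} R} (φ : A ⟶ C)
    (N : {N : Module.Grassmannian A (A ⊗[R] B) d // IsIdeal B A N})
    (h : IsIdeal B C (Module.Grassmannian.map φ.hom N.1)) :
    HilbD.pull (f₀ B) (ptMap φ) (objEquiv d A N).1 =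
      (objEquiv d C ⟨Module.Grassmannian.map φ.hom N.1, h⟩).1 := by
  show HilbD.pull (f₀ B) (ptMap φ) (sub _) = sub _
  rw [pull_sub, idealOf_map φ N.1 N.2 h]

end Groth.HilbPts
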