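import Mathlib
import Groth.Agent.HilbPts.Affine

/-!
# Representability from points with values in algebras, and the affine case (helper78)
-/

set_option autoImplicit false
set_option linter.style.haveILetI false

universe u

open CategoryTheory CategoryTheory.Limits AlgebraicGeometry TensorProduct
open Groth.GrassRep (Pt ptMap)

noncomputable section

namespace Groth.HilbPts

variable {R : Type u} [CommRing R] {X : Scheme.{u}} {f : X ⟶ Spec (CommRingCat.of R)} {d : ℕ}

/-- two closed subschemes of `X_T` are equal if they agree on all points with values in algebras -/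
lemma eq_of_pts {T : Over (Spec (CommRingCat.of R))} {I J : (PicF.XT f T).IdealSheafData}
    (h : ∀ (A : CommAlgCat.{u} R) (g : Pt A ⟶ T), HilbD.pull f g I = HilbD.pull f g J) : I = J := by
  obtain ⟨ι, A, g, hg, hcov⟩ := Groth.GrassRep.exists_cover T
  let 𝒰 := Groth.GrassRep.coverOf (fun i => (g i).left) hcov
  refine eq_of_pieces 𝒰 fun i => ?_
  let α : piece T 𝒰 i ⟶ Pt (A i) := Over.homMk (𝟙 _) (by
    show 𝟙 _ ≫ (Pt (A i)).hom = (g i).left ≫ T.hom
    rw [Category.id_comp, Over.w])
  have e : pieceHom T 𝒰 i = α ≫ g i := by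
    ext
    exact (Category.id_comp _).symm
  rw [e, ← pull_pull, ← pull_pull, h]

/-- a natural bijection on points gives representability -/
theorem representable_of_pts (H : Over (Spec (CommRingCat.of R)))
    (θ : ∀ A : CommAlgCat.{u} R, (Pt A ⟶ H) ≃ HilbD.Obj f d (Pt A))
    (hθ : ∀ (A C : CommAlgCat.{u} R) (φ : A ⟶ C) (g : Pt A ⟶ H),
      HilbD.pull f (ptMap φ) (θ A g).1 = (θ C (ptMap φ ≫ g)).1) :
    HilbD.Representable f d := by
  have hθ' : ∀ (A C : CommAlgCat.{u} R) (u : Pt C ⟶ Pt A) (g : Pt A ⟶ H),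
      HilbD.pull f u (θ A g).1 = (θ C (u ≫ g)).1 := by
    intro A C u g
    obtain ⟨φ, rfl⟩ := Groth.GrassRep.exists_ptMap u
    exact hθ A C φ g
  obtain ⟨ι, A, g, hg, hcov⟩ := Groth.GrassRep.exists_cover H
  let 𝒰 := Groth.GrassRep.coverOf (fun i => (g i).left) hcov
  let α : ∀ i, piece H 𝒰 i ⟶ Pt (A i) := fun i => Over.homMk (𝟙 _) (by
    show 𝟙 _ ≫ (Pt (A i)).hom = (g i).left ≫ H.hom
    rw [Category.id_comp, Over.w])
  have hα : ∀ i, α i ≫ g i = pieceHom H 𝒰 i := fun i => by
    ext
    exact Category.id_comp _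
  obtain ⟨Z, hZ⟩ := exists_obj_glue 𝒰 (fun i => pullObj (α i) (θ (A i) (g i))) fun i j W a b hab => by
    show HilbD.pull f a (HilbD.pull f (α i) _) = HilbD.pull f b (HilbD.pull f (α j) _)
    refine eq_of_pts fun C w => ?_
    rw [pull_pull, pull_pull, pull_pull, pull_pull, hθ', hθ']
    refine congrArg (fun m => (θ C m).1) ?_
    rw [Category.assoc, Category.assoc, Category.assoc, Category.assoc, hα, hα, hab]
  have key : ∀ (C : CommAlgCat.{u} R) (u : Pt C ⟶ H), HilbD.pull f u Z.1 = (θ C u).1 := by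
    intro C u
    let 𝒱 := 𝒰.pullback₁ u.left
    refine eq_of_pieces 𝒱 fun i => eq_of_pts fun D w => ?_
    rw [pull_pull, pull_pull, pull_pull, hθ']
    let q : piece (Pt C) 𝒱 i ⟶ piece H 𝒰 i := Over.homMk (pullback.snd u.left (𝒰.f i)) (by
      show pullback.snd u.left (𝒰.f i) ≫ 𝒰.f i ≫ H.hom = pullback.fst u.left (𝒰.f i) ≫ (Pt C).hom
      rw [← pullback.condition_assoc, Over.w u])
    have e : (w ≫ pieceHom (Pt C) 𝒱 i) ≫ u = (w ≫ q ≫ α i) ≫ g i := by
      rw [Category.assoc, Category.assoc, Category.assoc, hα]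
      congr 1
      ext
      exact pullback.condition
    rw [e, ← hθ', Category.assoc, Category.assoc, hα]
    have hz := congrArg (HilbD.pull f (w ≫ q)) (hZ i)
    rw [pull_pull, Category.assoc] at hz
    refine hz.trans ((pull_pull f (w ≫ q) (α i) _).trans ?_)
    rw [Category.assoc]
  refine ⟨H, Z, fun T W => ?_⟩
  obtain ⟨c, hc⟩ := Groth.GrassRep.exists_hom_of_pts
    (fun C u => (θ C).symm (pullObj u W)) fun C D φ u => by
    apply (θ D).injective
    refine Subtype.ext ?_
    rw [Equiv.apply_symm_apply, ← hθ, Equiv.apply_symm_apply]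
    exact (pull_pull f (ptMap φ) u W.1).symm
  refine ⟨c, eq_of_pts fun C u => ?_, fun c' hc' => Groth.GrassRep.hom_ext _ _ fun C u => ?_⟩
  · rw [pull_pull, key, hc, Equiv.apply_symm_apply]
    rfl
  · apply (θ C).injective
    refine Subtype.ext ?_
    rw [hc, Equiv.apply_symm_apply, ← key, ← pull_pull]
    exact congrArg (HilbD.pull f u) hc'

variable (R) in
/-- the affine case -/
theorem representable_affine (B : Type u) [CommRing B] [Algebra R B] (d : ℕ) :
    HilbD.Representable (f₀ (R := R) B) d := by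
  have he : Groth.GrassRep.Natural (Groth.GrassRep.grass R B d)
      (fun A => Groth.GrassRep.pts R B d A) := fun A C φ g g' h => by
    obtain rfl := (Groth.GrassRep.left_eq_iff φ g g').mp h
    rw [Module.Grassmannian.functor_map]
    exact Groth.GrassRep.pts_natural A C φ g
  obtain ⟨Z, c, hc, hZ⟩ := he.exists_closed (fun A N => IsIdeal B A N)
    Groth.GrassRep.exists_ideal_stable
  have hmono : Mono c := (Over.forget _).mono_of_mono_map (show Mono c.left from inferInstance)
  let P : ∀ A : CommAlgCat.{u} R, (Pt A ⟶ Z) ≃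
      {N : Module.Grassmannian A (A ⊗[R] B) d // IsIdeal B A N} := fun A =>
    Equiv.ofBijective (fun z => ⟨Groth.GrassRep.pts R B d A (z ≫ c), (hZ A _).1 ⟨z, rfl⟩⟩) (by
      refine ⟨fun z z' h => ?_, fun N => ?_⟩
      · exact (cancel_mono c).1 ((Groth.GrassRep.pts R B d A).injective (congrArg Subtype.val h))
      · obtain ⟨g, hg⟩ := (Groth.GrassRep.pts R B d A).surjective N.1
        obtain ⟨z, hz⟩ := (hZ A g).2 (hg ▸ N.2)
        exact ⟨z, Subtype.ext (by rw [← hg, ← hz])⟩)
  refine representable_of_pts Z (fun A => (P A).trans (objEquiv d A)) fun A C φ g => ?_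
  have e : Groth.GrassRep.pts R B d C ((ptMap φ ≫ g) ≫ c) =
      Module.Grassmannian.map φ.hom (Groth.GrassRep.pts R B d A (g ≫ c)) := by
    rw [Category.assoc]
    exact Groth.GrassRep.pts_natural A C φ (g ≫ c)
  have hI : IsIdeal B C (Module.Grassmannian.map φ.hom (P A g).1) := e ▸ (P C (ptMap φ ≫ g)).2
  refine (pull_objEquiv φ (P A g) hI).trans ?_
  exact congrArg (fun N => (objEquiv d C N).1) (Subtype.ext e.symm)

end Groth.HilbPts
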