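import Mathlib
import Groth.Agent.HilbPts.Rep

/-!
# Transfer of the Hilbert functor of points along an open immersion over a monomorphism (helper78)
-/

set_option autoImplicit false
set_option linter.style.haveILetI false

universe u

open CategoryTheory CategoryTheory.Limits AlgebraicGeometry

noncomputable section

namespace Groth.HilbPts

variable {X S : Scheme.{u}} (f : X ⟶ S) {d : ℕ}

lemma pull_id (T : Over S) (I : (PicF.XT f T).IdealSheafData) : HilbD.pull f (𝟙 T) I = I :=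
  ideal_ext fun W x => by rw [pull_le_ker, XTmap_id, Category.comp_id]

variable {f}
variable {X₀ S₀ : Scheme.{u}} {f₀ : X₀ ⟶ S₀} {j : X₀ ⟶ X} {e : S₀ ⟶ S}

/-- families lying in the open piece `X₀ ⟶ S₀` -/
def InP (j : X₀ ⟶ X) (e : S₀ ⟶ S) {T : Over S} (I : (PicF.XT f T).IdealSheafData) : Prop :=
  (∃ t, t ≫ e = T.hom) ∧ ∃ m, m ≫ j = I.subschemeι ≫ pullback.fst f T.hom

lemma InP.pull {T T' : Over S} {I : (PicF.XT f T).IdealSheafData} (h : InP j e I) (g : T' ⟶ T) :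
    InP j e (HilbD.pull f g I) := by
  obtain ⟨⟨t, ht⟩, m, hm⟩ := h
  obtain ⟨z, hz⟩ := (le_ker_iff _ _).1 ((pull_le_ker f g I (HilbD.pull f g I).subschemeι).1
    (Scheme.IdealSheafData.ker_subschemeι _).ge)
  refine ⟨⟨g.left ≫ t, by rw [Category.assoc, ht, Over.w g]⟩, z ≫ m, ?_⟩
  rw [Category.assoc, hm, ← Category.assoc, hz, Category.assoc, XTmap_fst]

/-- `T₀` over `S` -/
abbrev mapT (e : S₀ ⟶ S) (T₀ : Over S₀) : Over S := Over.mk (T₀.hom ≫ e)

/-- a morphism over `S₀` over `S` -/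
abbrev mapHom (e : S₀ ⟶ S) {T₀ T₀' : Over S₀} (u : T₀ ⟶ T₀') : mapT e T₀ ⟶ mapT e T₀' :=
  Over.homMk u.left (by show u.left ≫ T₀'.hom ≫ e = T₀.hom ≫ e; rw [← Category.assoc, Over.w u])

variable (w : j ≫ f = f₀ ≫ e)

/-- `X₀ ×_{S₀} T ⟶ X ×_S T` -/
def kap (T₀ : Over S₀) : PicF.XT f₀ T₀ ⟶ PicF.XT f (mapT e T₀) :=
  pullback.lift (pullback.fst _ _ ≫ j) (pullback.snd _ _) (by
    rw [Category.assoc, w, pullback.condition_assoc]
    rfl)

@[reassoc]
lemma kap_fst (T₀ : Over S₀) :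
    kap w T₀ ≫ pullback.fst f (mapT e T₀).hom = pullback.fst f₀ T₀.hom ≫ j :=
  pullback.lift_fst _ _ _

@[reassoc]
lemma kap_proj (T₀ : Over S₀) :
    kap w T₀ ≫ pullback.snd f (mapT e T₀).hom = pullback.snd f₀ T₀.hom :=
  pullback.lift_snd _ _ _

lemma kap_XTmap {T₀ T₀' : Over S₀} (u : T₀' ⟶ T₀) :
    kap w T₀' ≫ PicF.XTmap f (mapHom e u) = PicF.XTmap f₀ u ≫ kap w T₀ := by
  apply pullback.hom_ext
  · rw [Category.assoc, XTmap_fst, kap_fst, Category.assoc, kap_fst, XTmap_fst_assoc]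
  · rw [Category.assoc, XTmap_proj, kap_proj_assoc, Category.assoc, kap_proj, XTmap_proj]
    rfl

variable [Mono e]

lemma isPullback_kap (T₀ : Over S₀) :
    IsPullback (kap w T₀) (pullback.fst f₀ T₀.hom) (pullback.fst f (mapT e T₀).hom) j := by
  refine IsPullback.of_right ?_ (kap_fst w T₀) (IsPullback.of_hasPullback f (mapT e T₀).hom).flip
  rw [kap_proj, w]
  exact ((IsPullback.of_hasPullback f₀ T₀.hom).flip).comp_mono' e

variable [IsOpenImmersion j]

instance isOpenImmersion_kap (T₀ : Over S₀) : IsOpenImmersion (kap w T₀) :=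
  MorphismProperty.of_isPullback (isPullback_kap w T₀).flip inferInstance

variable [IsSeparated f]

lemma isClosedImmersion_comp_kap (T₀ : Over S₀) (I : HilbD.Obj f₀ d T₀) :
    IsClosedImmersion (I.1.subschemeι ≫ kap w T₀) := by
  have h1 : IsFinite (I.1.subschemeι ≫ PicF.XTproj f₀ T₀) := I.2.1.1
  have : IsFinite ((I.1.subschemeι ≫ kap w T₀) ≫ pullback.snd f (mapT e T₀).hom) := by
    rw [Category.assoc, kap_proj]; exact h1
  have : IsFinite (I.1.subschemeι ≫ kap w T₀) := IsFinite.of_comp _ (pullback.snd f (mapT e T₀).hom)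
  exact (IsClosedImmersion.iff_isProper_and_mono _).mpr ⟨inferInstance, inferInstance⟩

/-- the family on `X_T` of a family on the open piece -/
def up {T₀ : Over S₀} (I : HilbD.Obj f₀ d T₀) : HilbD.Obj f d (mapT e T₀) :=
  ⟨(I.1.subschemeι ≫ kap w T₀).ker, by
    haveI := isClosedImmersion_comp_kap w T₀ I
    rw [isFinLocFreeOfDeg_ker, Category.assoc,
      show kap w T₀ ≫ PicF.XTproj f (mapT e T₀) = PicF.XTproj f₀ T₀ from kap_proj w T₀]
    exact I.2⟩

lemma up_le_ker {T₀ : Over S₀} (I : HilbD.Obj f₀ d T₀) {W : Scheme.{u}}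
    (x : W ⟶ PicF.XT f (mapT e T₀)) :
    (up w I).1 ≤ x.ker ↔ ∃ y, y ≫ kap w T₀ = x ∧ I.1 ≤ y.ker := by
  haveI := isClosedImmersion_comp_kap w T₀ I
  show (I.1.subschemeι ≫ kap w T₀).ker ≤ _ ↔ _
  rw [← exists_fac_iff_ker_le]
  constructor
  · rintro ⟨z, rfl⟩
    exact ⟨z ≫ I.1.subschemeι, Category.assoc _ _ _, (le_ker_iff _ _).2 ⟨z, rfl⟩⟩
  · rintro ⟨y, rfl, hy⟩
    obtain ⟨z, rfl⟩ := (le_ker_iff _ _).1 hy
    exact ⟨z, (Category.assoc _ _ _).symm⟩

lemma up_injective {T₀ : Over S₀} {I J : HilbD.Obj f₀ d T₀} (h : (up w I).1 = (up w J).1) :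
    I = J := by
  refine Subtype.ext (ideal_ext fun W y => ?_)
  have key : ∀ K : HilbD.Obj f₀ d T₀, K.1 ≤ y.ker ↔ (up w K).1 ≤ (y ≫ kap w T₀).ker := fun K => by
    rw [up_le_ker]
    exact ⟨fun h => ⟨y, rfl, h⟩, fun ⟨y', h1, h2⟩ => (cancel_mono (kap w T₀)).1 h1 ▸ h2⟩
  rw [key, key, h]

lemma pull_up {T₀ T₀' : Over S₀} (u : T₀' ⟶ T₀) (I : HilbD.Obj f₀ d T₀) :
    HilbD.pull f (mapHom e u) (up w I).1 = (up w (pullObj u I)).1 := by
  refine ideal_ext fun W x => ?_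
  rw [pull_le_ker, up_le_ker, up_le_ker]
  show _ ↔ ∃ y, y ≫ kap w T₀' = x ∧ HilbD.pull f₀ u I.1 ≤ y.ker
  constructor
  · rintro ⟨y, hy, hyI⟩
    have h1 : x ≫ pullback.fst f (mapT e T₀').hom = (y ≫ pullback.fst f₀ T₀.hom) ≫ j := by
      have h := congrArg (fun m => m ≫ pullback.fst f (mapT e T₀).hom) hy
      simp only [Category.assoc, kap_fst, XTmap_fst] at h
      rw [Category.assoc]
      exact h.symm
    let y' := (isPullback_kap w T₀').lift x (y ≫ pullback.fst f₀ T₀.hom) h1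
    have hy' : y' ≫ kap w T₀' = x := (isPullback_kap w T₀').lift_fst _ _ _
    refine ⟨y', hy', ?_⟩
    rw [pull_le_ker]
    have : y' ≫ PicF.XTmap f₀ u = y := by
      rw [← cancel_mono (kap w T₀), Category.assoc, ← kap_XTmap, reassoc_of% hy', hy]
    rwa [this]
  · rintro ⟨y, rfl, hy⟩
    rw [pull_le_ker] at hy
    exact ⟨_, by rw [Category.assoc, ← kap_XTmap, Category.assoc], hy⟩

lemma inP_up {T₀ : Over S₀} (I : HilbD.Obj f₀ d T₀) : InP j e (up w I).1 := by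
  refine ⟨⟨T₀.hom, rfl⟩, ?_⟩
  haveI := isClosedImmersion_comp_kap w T₀ I
  obtain ⟨z, hz⟩ := (exists_fac_iff_ker_le (I.1.subschemeι ≫ kap w T₀) (up w I).1.subschemeι).2
    (Scheme.IdealSheafData.ker_subschemeι _).ge
  refine ⟨z ≫ I.1.subschemeι ≫ pullback.fst f₀ T₀.hom, ?_⟩
  rw [← hz, Category.assoc, Category.assoc, Category.assoc, Category.assoc, kap_fst]

lemma exists_up_eq {T₀ : Over S₀} (W : HilbD.Obj f d (mapT e T₀)) (hW : InP j e W.1) :
    ∃ I, up w I = W := by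
  obtain ⟨-, m, hm⟩ := hW
  let v := (isPullback_kap w T₀).lift W.1.subschemeι m hm.symm
  have hv : v ≫ kap w T₀ = W.1.subschemeι := (isPullback_kap w T₀).lift_fst _ _ _
  have : IsClosedImmersion (v ≫ kap w T₀) := hv ▸ inferInstance
  have : IsClosedImmersion v := IsClosedImmersion.of_comp v (kap w T₀)
  let I : HilbD.Obj f₀ d T₀ := ⟨v.ker, by
    rw [isFinLocFreeOfDeg_ker]
    have e1 : v ≫ PicF.XTproj f₀ T₀ = W.1.subschemeι ≫ PicF.XTproj f (mapT e T₀) := by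
      rw [← hv, Category.assoc]
      exact congrArg (v ≫ ·) (kap_proj w T₀).symm
    rw [e1]
    exact W.2⟩
  refine ⟨I, Subtype.ext (ideal_ext fun V x => ?_)⟩
  rw [up_le_ker, le_ker_iff W.1]
  constructor
  · rintro ⟨y, rfl, hy⟩
    obtain ⟨z, rfl⟩ := (exists_fac_iff_ker_le v y).2 hy
    exact ⟨z, by rw [Category.assoc, hv]⟩
  · rintro ⟨z, rfl⟩
    exact ⟨z ≫ v, by rw [Category.assoc, hv], z.le_ker_comp v⟩

include w in
/-- a representing object for the families in the open piece -/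
theorem exists_universal_inP (h : HilbD.Representable f₀ d) :
    ∃ (H : Over S) (Z : HilbD.Obj f d H), InP j e Z.1 ∧
      ∀ (T : Over S) (W : HilbD.Obj f d T), InP j e W.1 → ∃! t : T ⟶ H, HilbD.pull f t Z.1 = W.1 := by
  obtain ⟨H₀, Z₀, hZ₀⟩ := h
  refine ⟨mapT e H₀, up w Z₀, inP_up w Z₀, ?_⟩
  have aux : ∀ (T₀ : Over S₀) (W : HilbD.Obj f d (mapT e T₀)), InP j e W.1 →
      ∃! t : mapT e T₀ ⟶ mapT e H₀, HilbD.pull f t (up w Z₀).1 = W.1 := by
    intro T₀ W hW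
    obtain ⟨I, rfl⟩ := exists_up_eq w W hW
    obtain ⟨u, hu, huu⟩ := hZ₀ T₀ I
    refine ⟨mapHom e u, ?_, fun t ht => ?_⟩
    · dsimp only
      rw [pull_up, show pullObj u Z₀ = I from Subtype.ext hu]
    · let u' : T₀ ⟶ H₀ := Over.homMk t.left (by
        have h1 := Over.w t
        rw [← cancel_mono e, Category.assoc]
        exact h1)
      have ht' : t = mapHom e u' := by ext; rfl
      rw [ht', pull_up] at ht
      rw [ht', huu u' (congrArg Subtype.val (up_injective w ht))]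
  intro T W hW
  obtain ⟨⟨t₀, ht₀⟩, -⟩ := id hW
  let α : mapT e (Over.mk t₀) ⟶ T := Over.homMk (𝟙 T.left) (by
    show 𝟙 _ ≫ T.hom = t₀ ≫ e
    rw [Category.id_comp, ht₀])
  let β : T ⟶ mapT e (Over.mk t₀) := Over.homMk (𝟙 T.left) (by
    show 𝟙 _ ≫ t₀ ≫ e = T.hom
    rw [Category.id_comp, ht₀])
  have hβα : β ≫ α = 𝟙 T := by ext; exact Category.id_comp _
  have hαβ : α ≫ β = 𝟙 _ := by ext; exact Category.id_comp _
  obtain ⟨t, ht, htu⟩ := aux _ (pullObj α W) (hW.pull α)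
  refine ⟨β ≫ t, ?_, fun t' ht' => ?_⟩
  · dsimp only
    rw [← pull_pull, ht]
    show HilbD.pull f β (HilbD.pull f α W.1) = W.1
    rw [pull_pull, hβα, pull_id]
  · rw [← htu (α ≫ t') (by
      show HilbD.pull f (α ≫ t') _ = HilbD.pull f α W.1
      rw [← pull_pull]; exact congrArg _ ht'), ← Category.assoc, hβα, Category.id_comp]

/-- representability of affine over affine -/
theorem representable_of_isAffine [IsAffine X] [IsAffine S] (d : ℕ) :
    HilbD.Representable f d := by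
  let ψ := f.appTop
  letI := ψ.hom.toAlgebra
  have h := representable_affine Γ(S, ⊤) Γ(X, ⊤) d
  have w : X.isoSpec.inv ≫ f = Spec.map (CommRingCat.ofHom (algebraMap Γ(S, ⊤) Γ(X, ⊤))) ≫
      S.isoSpec.inv := (Scheme.isoSpec_inv_naturality f).symm
  obtain ⟨H, Z, hZ, hu⟩ := exists_universal_inP w h
  refine ⟨H, Z, fun T W => hu T W ⟨⟨T.hom ≫ S.isoSpec.hom, by simp⟩,
    W.1.subschemeι ≫ pullback.fst f T.hom ≫ X.isoSpec.hom, by simp⟩⟩

end Groth.HilbPts
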