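import Mathlib
import Groth.Agent.HilbPts.Transfer
import Groth.Agent.HilbPts.Count

/-!
# The open locus where a family lies in an open piece (helper78)
-/

set_option autoImplicit false
set_option linter.style.haveILetI false

universe u

open CategoryTheory CategoryTheory.Limits AlgebraicGeometry

noncomputable section

namespace Groth.HilbPts

variable {X S X₀ S₀ : Scheme.{u}} {f : X ⟶ S} {d : ℕ} (j : X₀ ⟶ X) (e : S₀ ⟶ S)
  [IsOpenImmersion j] [IsOpenImmersion e]

/-- the complement of the open locus, inside the base -/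
lemma isClosed_bad {T : Over S} (W : HilbD.Obj f d T) :
    IsClosed ((W.1.subschemeι ≫ PicF.XTproj f T) ''
      (((W.1.subschemeι ≫ pullback.fst f T.hom) ⁻¹ᵁ j.opensRange : W.1.subscheme.Opens) :
        Set W.1.subscheme)ᶜ) := by
  haveI : IsFinite (W.1.subschemeι ≫ PicF.XTproj f T) := W.2.1.1
  exact (W.1.subschemeι ≫ PicF.XTproj f T).isClosedMap _
    ((W.1.subschemeι ≫ pullback.fst f T.hom) ⁻¹ᵁ j.opensRange).2.isClosed_compl

/-- the locus where a family lies in the open piece -/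
def locus {T : Over S} (W : HilbD.Obj f d T) : T.left.Opens :=
  (T.hom ⁻¹ᵁ e.opensRange) ⊓ ⟨_, (isClosed_bad j W).isOpen_compl⟩

lemma mem_locus_iff {T : Over S} (W : HilbD.Obj f d T) (t : T.left) :
    t ∈ locus j e W ↔ T.hom t ∈ Set.range e ∧
      ∀ z, (W.1.subschemeι ≫ PicF.XTproj f T) z = t →
        (W.1.subschemeι ≫ pullback.fst f T.hom) z ∈ Set.range j := by
  show _ ∧ _ ↔ _
  refine and_congr Iff.rfl ⟨fun h z hz => ?_, fun h => ?_⟩
  · by_contra hz'
    exact h ⟨z, hz', hz⟩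
  · rintro ⟨z, hz', hz⟩
    exact hz' (h z hz)

lemma inP_pull_iff {T T' : Over S} (g : T' ⟶ T) (W : HilbD.Obj f d T) :
    InP j e (HilbD.pull f g W.1) ↔ Set.range g.left ⊆ locus j e W := by
  obtain ⟨z, hz⟩ := (le_ker_iff _ _).1 ((pull_le_ker f g W.1 (HilbD.pull f g W.1).subschemeι).1
    (Scheme.IdealSheafData.ker_subschemeι _).ge)
  constructor
  · rintro ⟨⟨t, ht⟩, m, hm⟩ _ ⟨y, rfl⟩
    refine (mem_locus_iff j e W _).2 ⟨⟨t y, by rw [← Scheme.Hom.comp_apply, ht, ← Over.w g, Scheme.Hom.comp_apply]⟩,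
      fun w hw => ?_⟩
    obtain ⟨p, hp1, hp2⟩ := Scheme.exists_preimage_of_isPullback (isPullback_pull f g W.1) w y hw
    let c := pullback.snd W.1.subschemeι (PicF.XTmap f g)
    let p' : (HilbD.pull f g W.1).subscheme := c.toImage p
    have hp' : (HilbD.pull f g W.1).subschemeι p' = c p := by
      show (c.toImage ≫ c.imageι) p = c p
      rw [c.toImage_imageι]
    refine ⟨m p', ?_⟩
    rw [← Scheme.Hom.comp_apply, hm, Scheme.Hom.comp_apply, hp', ← Scheme.Hom.comp_apply,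
      ← XTmap_fst f g, ← Category.assoc, ← pullback.condition, Category.assoc,
      Scheme.Hom.comp_apply, hp1]
  · intro h
    refine ⟨⟨IsOpenImmersion.lift e T'.hom ?_, IsOpenImmersion.lift_fac _ _ _⟩,
      IsOpenImmersion.lift j _ ?_, IsOpenImmersion.lift_fac _ _ _⟩
    · rintro _ ⟨y, rfl⟩
      rw [← Over.w g, Scheme.Hom.comp_apply]
      exact ((mem_locus_iff j e W _).1 (h ⟨y, rfl⟩)).1
    · rintro _ ⟨p, rfl⟩
      rw [← XTmap_fst f g, ← Category.assoc, ← hz, Category.assoc, Scheme.Hom.comp_apply]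
      refine ((mem_locus_iff j e W _).1 (h ?_)).2 (z p) rfl
      refine ⟨((HilbD.pull f g W.1).subschemeι ≫ PicF.XTproj f T') p, ?_⟩
      rw [← Scheme.Hom.comp_apply, ← Scheme.Hom.comp_apply, Category.assoc,
        show PicF.XTproj f T' ≫ g.left = PicF.XTmap f g ≫ PicF.XTproj f T from (XTmap_proj f g).symm,
        ← Category.assoc, ← hz, Category.assoc]

/-- an affine piece around a fibre of a family -/
lemma exists_affine_piece (h : ∀ (s : S) (x : Fin d → X), (∀ i, f.base (x i) = s) →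
      ∃ U : X.Opens, IsAffineOpen U ∧ ∀ i, x i ∈ U) {T : Over S} (W : HilbD.Obj f d T) (t : T.left) :
    ∃ (V : S.Opens) (U : X.Opens) (_ : IsAffineOpen V) (_ : IsAffineOpen U) (_ : U ≤ f ⁻¹ᵁ V),
      t ∈ locus U.ι V.ι W := by
  obtain ⟨_, ⟨V, hV, rfl⟩, htV, -⟩ :=
    S.isBasis_affineOpens.exists_subset_of_mem_open (Set.mem_univ (T.hom t)) isOpen_univ
  obtain ⟨hfin, hcard⟩ := finite_fibre _ W.2 t
  let F : Set X := (W.1.subschemeι ≫ pullback.fst f T.hom) ''
    ((W.1.subschemeι ≫ PicF.XTproj f T) ⁻¹' {t})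
  have hFs : ∀ x ∈ F, f x = T.hom t := by
    rintro _ ⟨z, hz, rfl⟩
    rw [← Scheme.Hom.comp_apply, Category.assoc, pullback.condition, ← Category.assoc,
      Scheme.Hom.comp_apply]
    exact congrArg T.hom hz
  suffices ∃ (U : X.Opens), IsAffineOpen U ∧ U ≤ f ⁻¹ᵁ V ∧ F ⊆ U by
    obtain ⟨U, hU, hUV, hFU⟩ := this
    refine ⟨V, U, hV, hU, hUV, (mem_locus_iff _ _ W t).2 ⟨?_, fun z hz => ?_⟩⟩
    · rw [Scheme.Opens.range_ι]; exact htV
    · rw [Scheme.Opens.range_ι]; exact hFU ⟨z, hz, rfl⟩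
  rcases F.eq_empty_or_nonempty with hF | hne
  · exact ⟨⊥, isAffineOpen_bot X, bot_le, by rw [hF]; exact Set.empty_subset _⟩
  obtain ⟨x, hx, hx'⟩ := exists_tuple F (hfin.image _) ((Set.ncard_image_le hfin).trans hcard) hne
  obtain ⟨U', hU', hxU'⟩ := h (T.hom t) x fun i => hFs _ (hx i)
  obtain ⟨U, hU, hUle, hFU⟩ := exists_affine_le_of_finite hU' (f ⁻¹ᵁ V) (hfin.image _)
    (fun a ha => by obtain ⟨i, rfl⟩ := hx' a ha; exact hxU' i)
    (fun a ha => by show f a ∈ V; rw [hFs a ha]; exact htV)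
  exact ⟨U, hU, hUle, hFU⟩

end Groth.HilbPts
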