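import Mathlib
import Groth.Agent.HilbPts.Locus2

/-!
# Gluing representing schemes of open pieces of the Hilbert functor of points (helper78)
-/

set_option autoImplicit false
set_option linter.style.haveILetI false

universe u

open CategoryTheory CategoryTheory.Limits AlgebraicGeometry

noncomputable section

namespace Groth.HilbPts

variable {X S : Scheme.{u}} {f : X ⟶ S} {d : ℕ}

/-- an atlas of the Hilbert functor by representable open pieces -/
structure Atlas (f : X ⟶ S) (d : ℕ) where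
  ι : Type u
  X₀ : ι → Scheme.{u}
  S₀ : ι → Scheme.{u}
  j : ∀ i, X₀ i ⟶ X
  e : ∀ i, S₀ i ⟶ S
  [hj : ∀ i, IsOpenImmersion (j i)]
  [he : ∀ i, IsOpenImmersion (e i)]
  H : ι → Over S
  Z : ∀ i, HilbD.Obj f d (H i)
  hZ : ∀ i, InP (j i) (e i) (Z i).1
  univ : ∀ i (T : Over S) (W : HilbD.Obj f d T), InP (j i) (e i) W.1 →
    ∃! t : T ⟶ H i, HilbD.pull f t (Z i).1 = W.1
  cover : ∀ (T : Over S) (W : HilbD.Obj f d T) (t : T.left),
    ∃ i, t ∈ @locus _ _ _ _ f d (j i) (e i) (hj i) (he i) _ W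

attribute [instance] Atlas.hj Atlas.he

namespace Atlas

variable (D : Atlas f d)

/-- the open locus of a piece -/
abbrev loc {T : Over S} (W : HilbD.Obj f d T) (i : D.ι) : T.left.Opens := locus (D.j i) (D.e i) W

/-- the overlap of two charts -/
abbrev O (i k : D.ι) : (D.H i).left.Opens := D.loc (D.Z i) k

/-- the overlap over `S` -/
abbrev Vo (i k : D.ι) : Over S := Over.mk ((D.O i k).ι ≫ (D.H i).hom)

/-- the inclusion of the overlap -/
abbrev incl (i k : D.ι) : D.Vo i k ⟶ D.H i := Over.homMk (D.O i k).ι rfl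

lemma range_incl (i k : D.ι) : Set.range (D.incl i k).left ⊆ D.O i k :=
  (Scheme.Opens.range_ι _).subset

lemma exists_t0 (i k : D.ι) :
    ∃! t : D.Vo i k ⟶ D.H k,
      HilbD.pull f t (D.Z k).1 = HilbD.pull f (D.incl i k) (D.Z i).1 :=
  D.univ k (D.Vo i k) (pullObj (D.incl i k) (D.Z i))
    ((inP_pull_iff (D.j k) (D.e k) (D.incl i k) (D.Z i)).2 (D.range_incl i k))

/-- the classifying map on an overlap -/
def t0 (i k : D.ι) : D.Vo i k ⟶ D.H k := (D.exists_t0 i k).choose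

lemma pull_t0 (i k : D.ι) :
    HilbD.pull f (D.t0 i k) (D.Z k).1 = HilbD.pull f (D.incl i k) (D.Z i).1 :=
  (D.exists_t0 i k).choose_spec.1

lemma hom_ext {T : Over S} {i : D.ι} (a b : T ⟶ D.H i)
    (h : HilbD.pull f a (D.Z i).1 = HilbD.pull f b (D.Z i).1) : a = b :=
  (D.univ i T (pullObj a (D.Z i)) ((D.hZ i).pull a)).unique rfl h.symm

lemma range_subset {T : Over S} {i k : D.ι} (a : T ⟶ D.H i) (b : T ⟶ D.H k)
    (h : HilbD.pull f a (D.Z i).1 = HilbD.pull f b (D.Z k).1) : Set.range a.left ⊆ D.O i k :=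
  (inP_pull_iff (D.j k) (D.e k) a (D.Z i)).1 (h ▸ (D.hZ k).pull b)

lemma range_t0 (i k : D.ι) : Set.range (D.t0 i k).left ⊆ D.O k i :=
  D.range_subset (D.t0 i k) (D.incl i k) (D.pull_t0 i k)

/-- the transition map -/
def tr (i k : D.ι) : (D.O i k).toScheme ⟶ (D.O k i).toScheme :=
  IsOpenImmersion.lift (D.O k i).ι (D.t0 i k).left
    (by rw [Scheme.Opens.range_ι]; exact D.range_t0 i k)

@[reassoc]
lemma tr_ι (i k : D.ι) : D.tr i k ≫ (D.O k i).ι = (D.t0 i k).left :=
  IsOpenImmersion.lift_fac _ _ _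

lemma tr_id (i : D.ι) : D.tr i i = 𝟙 _ := by
  rw [← cancel_mono (D.O i i).ι, tr_ι, Category.id_comp,
    show D.t0 i i = D.incl i i from D.hom_ext _ _ (D.pull_t0 i i)]
  rfl

/-- the triple overlap over `S` -/
abbrev Vt (i k l : D.ι) : Over S :=
  Over.mk (pullback.fst (D.O i k).ι (D.O i l).ι ≫ (D.O i k).ι ≫ (D.H i).hom)

/-- the triple overlap inside the chart -/
abbrev pi3 (i k l : D.ι) : D.Vt i k l ⟶ D.H i :=
  Over.homMk (pullback.fst (D.O i k).ι (D.O i l).ι ≫ (D.O i k).ι) (Category.assoc _ _ _)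

/-- the triple overlap in the second chart -/
abbrev tau (i k l : D.ι) : D.Vt i k l ⟶ D.H k :=
  Over.homMk (pullback.fst (D.O i k).ι (D.O i l).ι ≫ (D.t0 i k).left)
    (by rw [Category.assoc, Over.w (D.t0 i k)]; rfl)

lemma pull_tau (i k l : D.ι) :
    HilbD.pull f (D.tau i k l) (D.Z k).1 = HilbD.pull f (D.pi3 i k l) (D.Z i).1 := by
  let a : D.Vt i k l ⟶ D.Vo i k := Over.homMk (pullback.fst _ _) rfl
  have e1 : D.tau i k l = a ≫ D.t0 i k := by ext; rfl
  have e2 : D.pi3 i k l = a ≫ D.incl i k := by ext; rfl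
  rw [e1, e2, ← pull_pull, pull_t0, pull_pull]

lemma range_tau (i k l : D.ι) : Set.range (D.tau i k l).left ⊆ D.O k l := by
  refine (inP_pull_iff (D.j l) (D.e l) (D.tau i k l) (D.Z k)).1 ?_
  rw [pull_tau]
  refine (inP_pull_iff (D.j l) (D.e l) (D.pi3 i k l) (D.Z i)).2 ?_
  rintro _ ⟨p, rfl⟩
  show (pullback.fst (D.O i k).ι (D.O i l).ι ≫ (D.O i k).ι) p ∈ (D.O i l : Set (D.H i).left)
  rw [pullback.condition, ← Scheme.Opens.range_ι]
  exact ⟨pullback.snd (D.O i k).ι (D.O i l).ι p, rfl⟩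

/-- the transition map of triple overlaps -/
def tr3 (i k l : D.ι) :
    pullback (D.O i k).ι (D.O i l).ι ⟶ pullback (D.O k l).ι (D.O k i).ι :=
  pullback.lift
    (IsOpenImmersion.lift (D.O k l).ι (D.tau i k l).left
      (by rw [Scheme.Opens.range_ι]; exact D.range_tau i k l))
    (pullback.fst _ _ ≫ D.tr i k)
    (by rw [IsOpenImmersion.lift_fac, Category.assoc, tr_ι]; rfl)

lemma tr3_snd (i k l : D.ι) :
    D.tr3 i k l ≫ pullback.snd _ _ = pullback.fst _ _ ≫ D.tr i k :=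
  pullback.lift_snd _ _ _

/-- the transition map of triple overlaps over `S` -/
def tr3o (i k l : D.ι) : D.Vt i k l ⟶ D.Vt k l i :=
  Over.homMk (D.tr3 i k l) (by
    show D.tr3 i k l ≫ pullback.fst _ _ ≫ (D.O k l).ι ≫ (D.H k).hom = _
    rw [tr3, pullback.lift_fst_assoc, IsOpenImmersion.lift_fac_assoc]
    exact Over.w (D.tau i k l))

lemma tr3o_pi3 (i k l : D.ι) : D.tr3o i k l ≫ D.pi3 k l i = D.tau i k l := by
  ext
  show D.tr3 i k l ≫ pullback.fst _ _ ≫ (D.O k l).ι = _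
  rw [tr3, pullback.lift_fst_assoc, IsOpenImmersion.lift_fac]

lemma cocycle (i k l : D.ι) : D.tr3 i k l ≫ D.tr3 k l i ≫ D.tr3 l i k = 𝟙 _ := by
  have step : ∀ (a b c : D.ι) {T : Over S} (u : T ⟶ D.Vt a b c),
      HilbD.pull f ((u ≫ D.tr3o a b c) ≫ D.pi3 b c a) (D.Z b).1 =
        HilbD.pull f (u ≫ D.pi3 a b c) (D.Z a).1 := by
    intro a b c T u
    rw [Category.assoc, tr3o_pi3, ← pull_pull, pull_tau, pull_pull]
  have h := D.hom_ext ((((𝟙 _ ≫ D.tr3o i k l) ≫ D.tr3o k l i) ≫ D.tr3o l i k) ≫ D.pi3 i k l)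
    (𝟙 _ ≫ D.pi3 i k l) (by rw [step, step, step])
  rw [← cancel_mono (pullback.fst (D.O i k).ι (D.O i l).ι ≫ (D.O i k).ι)]
  have h' := congrArg (fun m : D.Vt i k l ⟶ D.H i => m.left) h
  simpa [tr3o] using h'

lemma O_self (i : D.ι) : D.O i i = ⊤ := by
  refine top_le_iff.1 fun x _ => ?_
  exact (inP_pull_iff (D.j i) (D.e i) (𝟙 (D.H i)) (D.Z i)).1 ((D.hZ i).pull _) ⟨x, rfl⟩

/-- the glue data -/
def glueData : Scheme.GlueData.{u} where
  J := D.ι
  U i := (D.H i).left
  V p := (D.O p.1 p.2).toScheme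
  f i k := (D.O i k).ι
  f_mono i k := inferInstance
  f_id i := by
    haveI : Surjective (D.O i i).ι := ⟨fun x => ⟨⟨x, by rw [D.O_self i]; trivial⟩, rfl⟩⟩
    exact (isIso_iff_isOpenImmersion_and_epi_base _).mpr
      ⟨inferInstance, (TopCat.epi_iff_surjective _).mpr (Scheme.Hom.surjective _)⟩
  f_hasPullback i k l := inferInstance
  t i k := D.tr i k
  t_id i := D.tr_id i
  t' i k l := D.tr3 i k l
  t_fac i k l := D.tr3_snd i k l
  cocycle i k l := D.cocycle i k l
  f_open i k := inferInstanceAs (IsOpenImmersion (D.O i k).ι)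

/-- a chart of the glued scheme -/
abbrev chart (i : D.ι) : (D.H i).left ⟶ D.glueData.glued := D.glueData.ι i

lemma glue_cond (i k : D.ι) :
    (D.t0 i k).left ≫ D.chart k = (D.O i k).ι ≫ D.chart i := by
  rw [← D.tr_ι i k, Category.assoc]
  exact D.glueData.glue_condition i k

lemma exists_factor {W : Scheme.{u}} {i k : D.ι} (a : W ⟶ (D.H i).left) (b : W ⟶ (D.H k).left)
    (h : a ≫ D.chart i = b ≫ D.chart k) :
    ∃ l : W ⟶ (D.O i k).toScheme, l ≫ (D.O i k).ι = a ∧ l ≫ (D.t0 i k).left = b := by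
  obtain ⟨l, hl1, hl2⟩ := PullbackCone.IsLimit.lift' (D.glueData.vPullbackConeIsLimit i k) a b h
  refine ⟨l, hl1, ?_⟩
  rw [← D.tr_ι i k]
  exact hl2

/-- the structure map of the glued scheme -/
def toBase : D.glueData.glued ⟶ S :=
  Scheme.Cover.glueMorphisms D.glueData.openCover (fun i => (D.H i).hom) fun i k => by
    obtain ⟨l, hl1, hl2⟩ := D.exists_factor _ _ (pullback.condition (f := D.chart i) (g := D.chart k))
    show pullback.fst (D.chart i) (D.chart k) ≫ (D.H i).hom = pullback.snd (D.chart i) (D.chart k) ≫ _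
    rw [← hl1, ← hl2, Category.assoc, Category.assoc, Over.w (D.t0 i k)]
    rfl

lemma chart_toBase (i : D.ι) : D.chart i ≫ D.toBase = (D.H i).hom :=
  Scheme.Cover.ι_glueMorphisms D.glueData.openCover _ _ i

/-- the glued scheme over `S` -/
abbrev glued : Over S := Over.mk D.toBase

/-- a chart over `S` -/
abbrev ch (i : D.ι) : D.H i ⟶ D.glued := Over.homMk (D.chart i) (D.chart_toBase i)

lemma ch_eq {T : Over S} {i k : D.ι} (a : T ⟶ D.H i) (b : T ⟶ D.H k)
    (h : HilbD.pull f a (D.Z i).1 = HilbD.pull f b (D.Z k).1) : a ≫ D.ch i = b ≫ D.ch k := by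
  have hr := D.range_subset a b h
  let l : T ⟶ D.Vo i k := Over.homMk
    (IsOpenImmersion.lift (D.O i k).ι a.left (by rw [Scheme.Opens.range_ι]; exact hr))
    (by show _ ≫ _ ≫ _ = _; rw [IsOpenImmersion.lift_fac_assoc, Over.w a])
  have hl : l ≫ D.incl i k = a := by ext; exact IsOpenImmersion.lift_fac _ _ _
  have hb : l ≫ D.t0 i k = b := D.hom_ext _ _ (by rw [← pull_pull, pull_t0, pull_pull, hl, h])
  rw [← hl, ← hb, Category.assoc, Category.assoc]
  congr 1
  ext
  exact (D.glue_cond i k).symm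

lemma pull_eq_of_ch_eq {T : Over S} {i k : D.ι} (a : T ⟶ D.H i) (b : T ⟶ D.H k)
    (h : a ≫ D.ch i = b ≫ D.ch k) : HilbD.pull f a (D.Z i).1 = HilbD.pull f b (D.Z k).1 := by
  obtain ⟨l, hl1, hl2⟩ := D.exists_factor a.left b.left (congrArg (fun m => m.left) h)
  let l' : T ⟶ D.Vo i k := Over.homMk l (by
    show l ≫ _ ≫ _ = _; rw [reassoc_of% hl1, Over.w a])
  have e1 : a = l' ≫ D.incl i k := by ext; exact hl1.symm
  have e2 : b = l' ≫ D.t0 i k := by ext; exact hl2.symm
  rw [e1, e2, ← pull_pull, ← pull_pull, pull_t0]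

/-- the cover of the glued scheme by the charts -/
def chCover : Scheme.OpenCover.{u} D.glued.left :=
  Scheme.Cover.mkOfCovers D.ι (fun i => (D.H i).left) (fun i => D.chart i)
    (fun x => by obtain ⟨i, y, hy⟩ := D.glueData.ι_jointly_surjective x; exact ⟨i, y, hy⟩)
    fun i => D.glueData.ι_isOpenImmersion i

/-- a piece of the chart cover is the chart -/
def toH (i : D.ι) : piece D.glued D.chCover i ⟶ D.H i :=
  Over.homMk (𝟙 _) (by
    show 𝟙 _ ≫ (D.H i).hom = D.chart i ≫ D.toBase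
    rw [Category.id_comp, chart_toBase])

lemma toH_ch (i : D.ι) : D.toH i ≫ D.ch i = pieceHom D.glued D.chCover i := by
  ext
  exact Category.id_comp _

include D in
theorem representable : HilbD.Representable f d := by
  obtain ⟨Z, hZ⟩ := exists_obj_glue (f := f) D.chCover (fun i => pullObj (D.toH i) (D.Z i))
    fun i k W a b hab => by
      show HilbD.pull f a (HilbD.pull f (D.toH i) _) = HilbD.pull f b (HilbD.pull f (D.toH k) _)
      rw [pull_pull, pull_pull]
      refine D.pull_eq_of_ch_eq _ _ ?_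
      rw [Category.assoc, Category.assoc, toH_ch, toH_ch, hab]
  have key : ∀ (i : D.ι) {T : Over S} (a : T ⟶ D.H i),
      HilbD.pull f (a ≫ D.ch i) Z.1 = HilbD.pull f a (D.Z i).1 := by
    intro i T a
    let β : D.H i ⟶ piece D.glued D.chCover i := Over.homMk (𝟙 _) (by
      show 𝟙 _ ≫ D.chart i ≫ D.toBase = _
      rw [Category.id_comp, chart_toBase])
    have hβ : β ≫ D.toH i = 𝟙 _ := by ext; exact Category.id_comp _
    have e : D.ch i = β ≫ pieceHom D.glued D.chCover i := by ext; exact (Category.id_comp _).symm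
    rw [← pull_pull, e, ← pull_pull f β, hZ i]
    show HilbD.pull f a (HilbD.pull f β (HilbD.pull f (D.toH i) (D.Z i).1)) = _
    rw [pull_pull f β, hβ, pull_id]
  refine ⟨D.glued, Z, fun T W => ?_⟩
  let 𝒰 : Scheme.OpenCover.{u} T.left := Scheme.Cover.mkOfCovers D.ι
    (fun i => (D.loc W i).toScheme) (fun i => (D.loc W i).ι)
    (fun x => by obtain ⟨i, hi⟩ := D.cover T W x; exact ⟨i, ⟨x, hi⟩, rfl⟩) fun i => inferInstance
  have hP : ∀ i : D.ι, InP (D.j i) (D.e i) (HilbD.pull f (pieceHom T 𝒰 i) W.1) := fun i =>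
    (inP_pull_iff (D.j i) (D.e i) (pieceHom T 𝒰 i) W).2 (Scheme.Opens.range_ι _).subset
  choose c hc hcu using fun i => D.univ i _ (pullObj (pieceHom T 𝒰 i) W) (hP i)
  have hcompat : ∀ i k, pullback.fst (𝒰.f i) (𝒰.f k) ≫ (c i).left ≫ D.chart i =
      pullback.snd (𝒰.f i) (𝒰.f k) ≫ (c k).left ≫ D.chart k := by
    intro i k
    let P : Over S := Over.mk (pullback.fst (𝒰.f i) (𝒰.f k) ≫ (piece T 𝒰 i).hom)
    let p : P ⟶ piece T 𝒰 i := Over.homMk (pullback.fst _ _) rfl
    let q : P ⟶ piece T 𝒰 k := Over.homMk (pullback.snd _ _) (by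
      show pullback.snd _ _ ≫ 𝒰.f k ≫ T.hom = pullback.fst _ _ ≫ 𝒰.f i ≫ T.hom
      rw [pullback.condition_assoc])
    have hpq : p ≫ pieceHom T 𝒰 i = q ≫ pieceHom T 𝒰 k := by ext; exact pullback.condition
    have h := D.ch_eq (p ≫ c i) (q ≫ c k) (by
      rw [← pull_pull, ← pull_pull, hc, hc]
      show HilbD.pull f p (HilbD.pull f (pieceHom T 𝒰 i) W.1) =
        HilbD.pull f q (HilbD.pull f (pieceHom T 𝒰 k) W.1)
      rw [pull_pull, pull_pull, hpq])
    have h' := congrArg (fun m : P ⟶ D.glued => m.left) h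
    exact (Category.assoc _ _ _).symm.trans (h'.trans (Category.assoc _ _ _))
  let g₀ := Scheme.Cover.glueMorphisms 𝒰 (fun i => (c i).left ≫ D.chart i) hcompat
  let g : T ⟶ D.glued := Over.homMk g₀ (Scheme.Cover.hom_ext 𝒰 _ _ fun i => by
    show 𝒰.f i ≫ g₀ ≫ D.toBase = 𝒰.f i ≫ T.hom
    rw [Scheme.Cover.ι_glueMorphisms_assoc, Category.assoc, chart_toBase]
    exact Over.w (c i))
  have hg : ∀ i, pieceHom T 𝒰 i ≫ g = c i ≫ D.ch i := fun i => by
    ext
    exact Scheme.Cover.ι_glueMorphisms 𝒰 _ hcompat i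
  have hgW : HilbD.pull f g Z.1 = W.1 := eq_of_pieces 𝒰 fun i => by
    rw [pull_pull, hg, key, hc]
    rfl
  refine ⟨g, hgW, fun g' hg' => ?_⟩
  ext
  refine Scheme.Cover.hom_ext (D.chCover.pullback₁ g'.left) _ _ fun i => ?_
  refine Scheme.Cover.hom_ext (D.chCover.pullback₁ (pullback.fst g'.left (D.chart i) ≫ g.left))
    _ _ fun k => ?_
  let r := pullback.fst (pullback.fst g'.left (D.chart i) ≫ g.left) (D.chart k)
  let P : Over S := Over.mk (r ≫ pullback.fst g'.left (D.chart i) ≫ T.hom)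
  let p : P ⟶ T := Over.homMk (r ≫ pullback.fst g'.left (D.chart i)) (Category.assoc _ _ _)
  let a : P ⟶ D.H i := Over.homMk (r ≫ pullback.snd g'.left (D.chart i)) (by
    show _ = r ≫ pullback.fst g'.left (D.chart i) ≫ T.hom
    rw [← Over.w g', pullback.condition_assoc, ← D.chart_toBase i, Category.assoc]
    rfl)
  let b : P ⟶ D.H k := Over.homMk (pullback.snd (pullback.fst g'.left (D.chart i) ≫ g.left) (D.chart k)) (by
    show _ = r ≫ pullback.fst g'.left (D.chart i) ≫ T.hom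
    rw [← Over.w g, ← D.chart_toBase k, ← pullback.condition_assoc, Category.assoc]
    rfl)
  have ha : p ≫ g' = a ≫ D.ch i := by
    ext
    show (r ≫ _) ≫ g'.left = (r ≫ _) ≫ D.chart i
    rw [Category.assoc, Category.assoc, pullback.condition]
  have hb : p ≫ g = b ≫ D.ch k := by
    ext
    show (r ≫ _) ≫ g.left = _
    rw [Category.assoc]
    exact pullback.condition
  have h := D.ch_eq a b (by rw [← key, ← key, ← ha, ← hb, ← pull_pull, ← pull_pull, hg', hgW])
  rw [← ha, ← hb] at h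
  have h' := congrArg (fun m => m.left) h
  simp only [Over.comp_left] at h'
  exact (Category.assoc _ _ _).symm.trans (h'.trans (Category.assoc _ _ _))

end Atlas

/-- representability when fibrewise `d`-tuples lie in affine opens -/
theorem representable_of_points_in_affine [IsSeparated f]
    (h : ∀ (s : S) (x : Fin d → X), (∀ i, f.base (x i) = s) →
      ∃ U : X.Opens, IsAffineOpen U ∧ ∀ i, x i ∈ U) : HilbD.Representable f d := by
  let ι := {p : S.Opens × X.Opens // IsAffineOpen p.1 ∧ IsAffineOpen p.2 ∧ p.2 ≤ f ⁻¹ᵁ p.1}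
  have hchart : ∀ p : ι, ∃ (H : Over S) (Z : HilbD.Obj f d H), InP p.1.2.ι p.1.1.ι Z.1 ∧
      ∀ (T : Over S) (W : HilbD.Obj f d T), InP p.1.2.ι p.1.1.ι W.1 →
        ∃! t : T ⟶ H, HilbD.pull f t Z.1 = W.1 := by
    rintro ⟨⟨V, U⟩, hV, hU, hle⟩
    haveI : IsAffine U.toScheme := hU
    haveI : IsAffine V.toScheme := hV
    exact exists_universal_inP (Scheme.Hom.resLE_comp_ι f hle).symm
      (representable_of_isAffine (f := f.resLE V U hle) d)
  choose H Z hZ hu using hchart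
  exact Atlas.representable
    { ι := ι, X₀ := fun p => p.1.2.toScheme, S₀ := fun p => p.1.1.toScheme
      j := fun p => p.1.2.ι, e := fun p => p.1.1.ι, H := H, Z := Z, hZ := hZ, univ := hu
      cover := fun T W t => by
        obtain ⟨V, U, hV, hU, hle, ht⟩ := exists_affine_piece h W t
        exact ⟨⟨(V, U), hV, hU, hle⟩, ht⟩ }

end Groth.HilbPts
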