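import Mathlib
import Groth.Agent.HilbPts.Basic

/-!
# Separatedness, closed subfunctors and one point (helper78)
-/

set_option autoImplicit false
set_option linter.style.haveILetI false

universe u

open CategoryTheory CategoryTheory.Limits AlgebraicGeometry

noncomputable section

namespace Groth.HilbPts

variable {X S : Scheme.{u}} {f : X ⟶ S} {d : ℕ}

lemma eq_of_pull_eq {H : Over S} {Z : HilbD.Obj f d H} (hZ : HilbD.IsUniversal f d H Z)
    {T : Over S} (g g' : T ⟶ H) (h : HilbD.pull f g Z.1 = HilbD.pull f g' Z.1) : g = g' :=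
  (hZ T (pullObj g Z)).unique rfl h.symm

theorem isSeparated_of_isUniversal {H : Over S} {Z : HilbD.Obj f d H}
    (hZ : HilbD.IsUniversal f d H Z) : IsSeparated H.hom := by
  refine ⟨?_⟩
  let T : Over S := Over.mk (pullback.fst H.hom H.hom ≫ H.hom)
  let g₁ : T ⟶ H := Over.homMk (pullback.fst H.hom H.hom) rfl
  let g₂ : T ⟶ H := Over.homMk (pullback.snd H.hom H.hom) pullback.condition.symm
  let Z₁ := pullObj g₁ Z
  let Z₂ := pullObj g₂ Z
  obtain ⟨T₁, i₁, h₁, H₁⟩ := exists_closed_pull_le f Z₁.1 Z₂.1 Z₁.2.1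
  obtain ⟨T₂, i₂, h₂, H₂⟩ := exists_closed_pull_le f Z₂.1 Z₁.1 Z₂.2.1
  let i : pullback i₁ i₂ ⟶ T.left := pullback.fst i₁ i₂ ≫ i₁
  have : IsClosedImmersion i := inferInstanceAs (IsClosedImmersion (pullback.fst i₁ i₂ ≫ i₁))
  -- over the locus the two projections agree
  let T₀ : Over S := Over.mk (i ≫ T.hom)
  let t : T₀ ⟶ T := Over.homMk i rfl
  have e : t ≫ g₁ = t ≫ g₂ := by
    refine eq_of_pull_eq hZ _ _ ?_
    rw [← pull_pull, ← pull_pull]
    exact le_antisymm ((H₂ T₀ t).2 ⟨pullback.snd i₁ i₂, pullback.condition.symm⟩)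
      ((H₁ T₀ t).2 ⟨pullback.fst i₁ i₂, rfl⟩)
  -- the diagonal lands in the locus
  let δ : H ⟶ T := Over.homMk (pullback.diagonal H.hom) (by
    show pullback.diagonal H.hom ≫ pullback.fst H.hom H.hom ≫ H.hom = H.hom
    rw [pullback.diagonal_fst_assoc])
  have hδ : δ ≫ g₁ = δ ≫ g₂ := by
    ext
    exact (pullback.diagonal_fst H.hom).trans (pullback.diagonal_snd H.hom).symm
  have key : HilbD.pull f δ Z₁.1 = HilbD.pull f δ Z₂.1 := by
    show HilbD.pull f δ (HilbD.pull f g₁ Z.1) = HilbD.pull f δ (HilbD.pull f g₂ Z.1)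
    rw [pull_pull, pull_pull, hδ]
  obtain ⟨z₁, hz₁⟩ := (H₁ H δ).1 key.ge
  obtain ⟨z₂, hz₂⟩ := (H₂ H δ).1 key.le
  let v : H.left ⟶ pullback i₁ i₂ := pullback.lift z₁ z₂ (hz₁.trans hz₂.symm)
  have hv : v ≫ i = pullback.diagonal H.hom := by
    show v ≫ pullback.fst i₁ i₂ ≫ i₁ = _
    rw [pullback.lift_fst_assoc, hz₁]
    rfl
  let w : pullback i₁ i₂ ⟶ H.left := i ≫ pullback.fst H.hom H.hom
  have hw : w ≫ pullback.diagonal H.hom = i := by
    apply pullback.hom_ext
    · simp [w]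
    · rw [Category.assoc, pullback.diagonal_snd, Category.comp_id]
      exact congrArg (fun m : T₀ ⟶ H => m.left) e
  have : IsIso v := ⟨w, by
    rw [← cancel_mono (pullback.diagonal H.hom), Category.assoc, hw, hv, Category.id_comp], by
    rw [← cancel_mono i, Category.assoc, hv, hw, Category.id_comp]⟩
  rw [← hv]
  infer_instance

/-! ### closed subschemes -/

section Closed

variable {Y : Scheme.{u}} (i : X ⟶ Y) [IsClosedImmersion i] (g : Y ⟶ S)

theorem representable_comp {H : Over S} {Z : HilbD.Obj g d H} (hZ : HilbD.IsUniversal g d H Z) :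
    HilbD.Representable (i ≫ g) d ∧
    ∀ (H' : Over S) (Z' : HilbD.Obj (i ≫ g) d H') (_ : HilbD.IsUniversal (i ≫ g) d H' Z')
      (m : H' ⟶ H), HilbD.pull g m Z.1 = HilbD.push i g H' Z'.1 → IsClosedImmersion m.left := by
  obtain ⟨H₀, j, hj, hJ⟩ := exists_closed_pull_le g Z.1 (iMap i g H).ker Z.2.1
  have hcond : ∀ {T : Over S} (t : T ⟶ H),
      (iMap i g T).ker ≤ HilbD.pull g t Z.1 ↔ ∃ z, z ≫ j = t.left := by
    intro T t
    rw [← hJ T t, ← push_bot i g H, pull_push, pull_bot, push_bot]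
  let H₁ : Over S := Over.mk (j ≫ H.hom)
  let jo : H₁ ⟶ H := Over.homMk j rfl
  obtain ⟨I, hI⟩ := exists_push_eq i g H₁ (HilbD.pull g jo Z.1)
    ((hcond jo).2 ⟨𝟙 _, Category.id_comp _⟩)
  let Z₁ : HilbD.Obj (i ≫ g) d H₁ := ⟨I, by
    rw [← isFinLocFreeOfDeg_push, hI]
    exact (pullObj jo Z).2⟩
  have hex : ∀ (T : Over S) (t : T ⟶ H) (W : HilbD.Obj (i ≫ g) d T),
      HilbD.pull g t Z.1 = HilbD.push i g T W.1 → ∃ t' : T ⟶ H₁, t' ≫ jo = t := by
    intro T t W h
    obtain ⟨z, hz⟩ := (hcond t).1 (h ▸ ker_iMap_le_push i g T W.1)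
    refine ⟨Over.homMk z ?_, by ext; exact hz⟩
    show z ≫ j ≫ H.hom = T.hom
    rw [reassoc_of% hz, Over.w t]
  have huniv : HilbD.IsUniversal (i ≫ g) d H₁ Z₁ := by
    intro T W
    obtain ⟨t, ht, htu⟩ := hZ T ⟨HilbD.push i g T W.1, (isFinLocFreeOfDeg_push i g W.1).2 W.2⟩
    obtain ⟨t', rfl⟩ := hex T t W ht
    refine ⟨t', push_injective i g T ?_, fun t'' ht'' => ?_⟩
    · rw [← pull_push, hI, pull_pull, ht]
    · have : t'' ≫ jo = t' ≫ jo := htu _ (by
        show HilbD.pull g (t'' ≫ jo) Z.1 = _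
        rw [← pull_pull, ← hI, pull_push]
        exact congrArg _ ht'')
      ext
      have h2 := congrArg (fun m : T ⟶ H => m.left) this
      exact (cancel_mono j).1 h2
  refine ⟨⟨H₁, Z₁, huniv⟩, fun H' Z' hZ' m hm => ?_⟩
  obtain ⟨φ, rfl⟩ := hex H' m Z' hm
  obtain ⟨ψ, hψ, -⟩ := hZ' H₁ Z₁
  have hφ : HilbD.pull (i ≫ g) φ Z₁.1 = Z'.1 := by
    apply push_injective i g H'
    rw [← pull_push, hI, pull_pull, hm]
  have h1 : φ ≫ ψ = 𝟙 H' := by
    refine eq_of_pull_eq hZ' _ _ ?_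
    rw [← pull_pull, hψ, hφ]
    exact ((ideal_ext fun W x => by rw [pull_le_ker, XTmap_id, Category.comp_id])).symm
  have h2 : ψ ≫ φ = 𝟙 H₁ := by
    refine eq_of_pull_eq huniv _ _ ?_
    rw [← pull_pull, hφ, hψ]
    exact ((ideal_ext fun W x => by rw [pull_le_ker, XTmap_id, Category.comp_id])).symm
  have : IsIso φ.left := ⟨ψ.left, congrArg (fun m : H' ⟶ H' => m.left) h1,
    congrArg (fun m : H₁ ⟶ H₁ => m.left) h2⟩
  show IsClosedImmersion (φ.left ≫ j)
  infer_instance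

end Closed

/-! ### one point -/

section OnePoint

variable (f) [IsSeparated f]

/-- the graph -/
def graph (T : Over S) (x : T.left ⟶ X) (hx : x ≫ f = T.hom) : T.left ⟶ PicF.XT f T :=
  pullback.lift x (𝟙 T.left) (by simpa using hx)

omit [IsSeparated f] in
@[reassoc (attr := simp)]
lemma graph_fst (T : Over S) (x : T.left ⟶ X) (hx : x ≫ f = T.hom) :
    graph f T x hx ≫ pullback.fst f T.hom = x :=
  pullback.lift_fst _ _ _

omit [IsSeparated f] in
@[reassoc (attr := simp)]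
lemma graph_snd (T : Over S) (x : T.left ⟶ X) (hx : x ≫ f = T.hom) :
    graph f T x hx ≫ pullback.snd f T.hom = 𝟙 T.left :=
  pullback.lift_snd _ _ _

instance isClosedImmersion_graph (T : Over S) (x : T.left ⟶ X) (hx : x ≫ f = T.hom) :
    IsClosedImmersion (graph f T x hx) := by
  have : IsClosedImmersion (graph f T x hx ≫ pullback.snd f T.hom) := by
    rw [graph, pullback.lift_snd]; infer_instance
  exact IsClosedImmersion.of_comp _ (pullback.snd f T.hom)

lemma secGraph_le_ker (T : Over S) (x : T.left ⟶ X) (hx : x ≫ f = T.hom) {W : Scheme.{u}}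
    (w : W ⟶ PicF.XT f T) :
    HilbD.secGraph f T x hx ≤ w.ker ↔
      w ≫ pullback.fst f T.hom = w ≫ pullback.snd f T.hom ≫ x := by
  show (graph f T x hx).ker ≤ _ ↔ _
  rw [← exists_fac_iff_ker_le]
  constructor
  · rintro ⟨z, rfl⟩
    simp
  · intro h
    refine ⟨w ≫ pullback.snd _ _, ?_⟩
    apply pullback.hom_ext
    · simp [h]
    · simp

lemma isFinLocFreeOfDeg_secGraph (T : Over S) (x : T.left ⟶ X) (hx : x ≫ f = T.hom) :
    Mor2.IsFinLocFreeOfDeg 1 ((HilbD.secGraph f T x hx).subschemeι ≫ PicF.XTproj f T) := by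
  show Mor2.IsFinLocFreeOfDeg 1 ((graph f T x hx).ker.subschemeι ≫ _)
  rw [isFinLocFreeOfDeg_ker, graph, PicF.XTproj, pullback.lift_snd]
  exact ⟨⟨inferInstance, inferInstance, inferInstance⟩, fun y => by
    rw [Scheme.Hom.finrank_eq_one_of_isIso]; rfl⟩

lemma pull_secGraph {T T' : Over S} (t : T' ⟶ T) (x : T.left ⟶ X) (hx : x ≫ f = T.hom) :
    HilbD.pull f t (HilbD.secGraph f T x hx) =
      HilbD.secGraph f T' (t.left ≫ x) (by rw [Category.assoc, hx, Over.w t]) := by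
  refine ideal_ext fun W w => ?_
  rw [pull_le_ker, secGraph_le_ker, secGraph_le_ker]
  simp

lemma secGraph_injective {T : Over S} {x x' : T.left ⟶ X} {hx : x ≫ f = T.hom}
    {hx' : x' ≫ f = T.hom} (h : HilbD.secGraph f T x hx = HilbD.secGraph f T x' hx') : x = x' := by
  have h1 := (secGraph_le_ker f T x' hx' (graph f T x hx)).1 (h ▸ le_rfl)
  simpa using h1

lemma exists_eq_secGraph {T : Over S} (Z : HilbD.Obj f 1 T) :
    ∃ (x : T.left ⟶ X) (hx : x ≫ f = T.hom), Z.1 = HilbD.secGraph f T x hx := by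
  obtain ⟨⟨h1, h2, h3⟩, h4⟩ := Z.2
  have : IsIso (Z.1.subschemeι ≫ PicF.XTproj f T) :=
    (Scheme.Hom.isIso_iff_finrank_eq _).2 (funext h4)
  let σ := inv (Z.1.subschemeι ≫ PicF.XTproj f T) ≫ Z.1.subschemeι
  have hσ : σ ≫ pullback.snd f T.hom = 𝟙 _ := by
    simp only [σ, Category.assoc]
    exact IsIso.inv_hom_id _
  refine ⟨σ ≫ pullback.fst f T.hom, ?_, ideal_ext fun W w => ?_⟩
  · rw [Category.assoc, pullback.condition, reassoc_of% hσ]
  · rw [le_ker_iff, secGraph_le_ker]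
    constructor
    · rintro ⟨z, rfl⟩
      simp only [σ, Category.assoc]
      congr 1
      simp only [← Category.assoc]
      congr 1
      rw [Category.assoc, Category.assoc, ← Category.assoc Z.1.subschemeι, IsIso.hom_inv_id_assoc]
    · intro h
      refine ⟨w ≫ pullback.snd f T.hom ≫ inv (Z.1.subschemeι ≫ PicF.XTproj f T), ?_⟩
      apply pullback.hom_ext
      · rw [h]; simp [σ]
      · simp only [Category.assoc]
        rw [show inv (Z.1.subschemeι ≫ PicF.XTproj f T) ≫ Z.1.subschemeι ≫ pullback.snd f T.hom = 𝟙 _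
          from IsIso.inv_hom_id _, Category.comp_id]

theorem isUniversal_diagonal :
    ∃ Δ : HilbD.Obj f 1 (Over.mk f),
      Δ.1 = HilbD.secGraph f (Over.mk f) (𝟙 X) (Category.id_comp f) ∧
      HilbD.IsUniversal f 1 (Over.mk f) Δ := by
  refine ⟨⟨_, isFinLocFreeOfDeg_secGraph f (Over.mk f) (𝟙 X) (Category.id_comp f)⟩, rfl,
    fun T Z => ?_⟩
  obtain ⟨x, hx, hZ⟩ := exists_eq_secGraph f Z
  refine ⟨Over.homMk x hx, ?_, fun t ht => ?_⟩
  · rw [hZ]
    exact (pull_secGraph f _ (T := Over.mk f) (𝟙 X) (Category.id_comp f)).trans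
      (by congr 1)
  · dsimp only at ht
    rw [hZ, pull_secGraph] at ht
    ext
    exact (Category.comp_id _).symm.trans (secGraph_injective f ht)

end OnePoint

end Groth.HilbPts
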