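import Mathlib
import Groth.Agent.HilbPts.Glue
import Groth.Agent.AlgGrp2.TorsorQuot

/-!
# fpqc descent for the Hilbert functor of points (helper78)
-/

set_option autoImplicit false
set_option linter.style.haveILetI false

universe u

open CategoryTheory CategoryTheory.Limits AlgebraicGeometry
open Groth.Pi1Desc (IsCover)

noncomputable section

namespace Groth.HilbPts

variable {X S : Scheme.{u}} (f : X ⟶ S) {d : ℕ}

/-- `IsFinLocFreeOfDeg` descends along surjective flat quasi-compact morphisms -/
lemma isFinLocFreeOfDeg_descent {Q P T T' : Scheme.{u}} {a : Q ⟶ P} {q : Q ⟶ T'} {p : P ⟶ T}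
    {g : T' ⟶ T} (h : IsPullback a q p g) [Surjective g] [Flat g] [QuasiCompact g]
    (hq : Mor2.IsFinLocFreeOfDeg d q) : Mor2.IsFinLocFreeOfDeg d p := by
  have hg := Groth.DescentBase.sfq g
  obtain ⟨⟨h1, h2, h3⟩, h4⟩ := hq
  have h1' : IsFinite p := MorphismProperty.of_isPullback_of_descendsAlong
    (P := @IsFinite) (Q := Groth.DescentBase.SFQ) h.flip hg h1
  have h2' : Flat p := MorphismProperty.of_isPullback_of_descendsAlong
    (P := @Flat) (Q := Groth.DescentBase.SFQ) h.flip hg h2
  refine ⟨⟨h1', h2', MorphismProperty.of_isPullback_of_descendsAlong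
    (P := @LocallyOfFinitePresentation) (Q := Groth.DescentBase.SFQ) h.flip hg h3⟩, fun y => ?_⟩
  obtain ⟨z, rfl⟩ := g.surjective y
  rw [← Scheme.Hom.finrank_of_isPullback a q p g h z]
  exact h4 z

variable (T : Over S) {T' : Scheme.{u}} (g : T' ⟶ T.left)

lemma isCover_XTmap [QuasiCompact g] [Flat g] [Surjective g] :
    IsCover (PicF.XTmap f (HilbD.coverHom T g)) :=
  have : IsCover (HilbD.coverHom T g).left := inferInstanceAs (IsCover g)
  IsCover.of_isPullback (isPullback_XTmap f (HilbD.coverHom T g)).flip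

lemma le_ker_of_cover [QuasiCompact g] [Flat g] [Surjective g] (I : (PicF.XT f T).IdealSheafData)
    {W : Scheme.{u}} (x : W ⟶ PicF.XT f T) :
    I ≤ x.ker ↔ HilbD.pull f (HilbD.coverHom T g) I ≤
      (pullback.snd x (PicF.XTmap f (HilbD.coverHom T g))).ker := by
  rw [pull_le_ker, ← pullback.condition]
  refine ⟨fun h => le_trans h (Scheme.Hom.le_ker_comp _ x), fun h => ?_⟩
  rw [le_ker_iff] at h ⊢
  obtain ⟨z, hz⟩ := h
  haveI := isCover_XTmap f T g
  haveI : IsCover (pullback.fst x (PicF.XTmap f (HilbD.coverHom T g))) :=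
    IsCover.of_isPullback (IsPullback.of_hasPullback x _).flip
  exact Groth.Pi1Desc.exists_lift_of_isCover _ I.subschemeι x z hz

theorem sheaf_single_cover [QuasiCompact g] [Flat g] [Surjective g]
    (Z' : HilbD.Obj f d (HilbD.coverOver T g))
    (hZ' : HilbD.pull f (HilbD.overlapFst T g) Z'.1 = HilbD.pull f (HilbD.overlapSnd T g) Z'.1) :
    ∃! I : (PicF.XT f T).IdealSheafData, Mor2.IsFinLocFreeOfDeg d (I.subschemeι ≫ PicF.XTproj f T) ∧
      HilbD.pull f (HilbD.coverHom T g) I = Z'.1 := by
  let p := PicF.XTmap f (HilbD.coverHom T g)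
  haveI : IsCover p := isCover_XTmap f T g
  obtain ⟨Z, j, q, hj, hpb⟩ := Groth.Pi1Desc.exists_closed_descent p Z'.1.subschemeι fun W v x e => by
    rw [← le_ker_iff]
    let y := v ≫ Z'.1.subschemeι
    have hy : Z'.1 ≤ y.ker := (le_ker_iff _ _).2 ⟨v, rfl⟩
    have e' : y ≫ p = x ≫ p := by rw [← e, Category.assoc]
    have e1 : (y ≫ PicF.XTproj f (HilbD.coverOver T g)) ≫ g =
        (x ≫ PicF.XTproj f (HilbD.coverOver T g)) ≫ g := by
      have := congrArg (fun m => m ≫ pullback.snd f T.hom) e'
      simp only [p, Category.assoc, XTmap_proj] at this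
      rw [Category.assoc, Category.assoc]
      exact this
    have e2 : y ≫ pullback.fst f _ = x ≫ pullback.fst f (HilbD.coverOver T g).hom := by
      have := congrArg (fun m => m ≫ pullback.fst f T.hom) e'
      simp only [p, Category.assoc, XTmap_fst] at this
      exact this
    let s : W ⟶ pullback g g := pullback.lift _ _ e1
    have hs : s ≫ pullback.fst g g = y ≫ PicF.XTproj f (HilbD.coverOver T g) := pullback.lift_fst _ _ _
    have hs' : s ≫ pullback.snd g g = x ≫ PicF.XTproj f (HilbD.coverOver T g) := pullback.lift_snd _ _ _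
    let w : W ⟶ PicF.XT f (HilbD.overlapOver T g) :=
      pullback.lift (y ≫ pullback.fst f _) s (by
        rw [Category.assoc, pullback.condition]
        have h := congrArg (fun m => m ≫ (HilbD.coverOver T g).hom) hs
        simp only [Category.assoc] at h
        refine h.symm.trans (congrArg (s ≫ ·) ?_)
        exact (Category.assoc _ _ _).symm)
    have hw1 : w ≫ pullback.fst f _ = y ≫ pullback.fst f _ := pullback.lift_fst _ _ _
    have hw2 : w ≫ pullback.snd f _ = s := pullback.lift_snd _ _ _
    have hwy : w ≫ PicF.XTmap f (HilbD.overlapFst T g) = y := by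
      apply pullback.hom_ext
      · rw [Category.assoc, XTmap_fst, hw1]
      · rw [Category.assoc, XTmap_proj, reassoc_of% hw2]
        exact hs
    have hwx : w ≫ PicF.XTmap f (HilbD.overlapSnd T g) = x := by
      apply pullback.hom_ext
      · rw [Category.assoc, XTmap_fst, hw1, e2]
      · rw [Category.assoc, XTmap_proj, reassoc_of% hw2]
        exact hs'
    rw [← hwy, ← pull_le_ker, hZ', pull_le_ker, hwx] at hy
    exact hy
  have hpull : HilbD.pull f (HilbD.coverHom T g) j.ker = Z'.1 := by
    refine ideal_ext fun W x => ?_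
    rw [pull_le_ker, le_ker_iff Z'.1, ← exists_fac_iff_ker_le]
    constructor
    · rintro ⟨z, hz⟩
      exact ⟨hpb.lift z x hz, hpb.lift_snd _ _ _⟩
    · rintro ⟨z, rfl⟩
      exact ⟨z ≫ q, by rw [Category.assoc, Category.assoc, hpb.w]⟩
  have hflf : Mor2.IsFinLocFreeOfDeg d (j.ker.subschemeι ≫ PicF.XTproj f T) := by
    rw [isFinLocFreeOfDeg_ker]
    haveI : Surjective (HilbD.coverHom T g).left := inferInstanceAs (Surjective g)
    haveI : Flat (HilbD.coverHom T g).left := inferInstanceAs (Flat g)
    haveI : QuasiCompact (HilbD.coverHom T g).left := inferInstanceAs (QuasiCompact g)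
    exact isFinLocFreeOfDeg_descent (hpb.paste_vert (isPullback_XTmap f (HilbD.coverHom T g))) Z'.2
  refine ⟨j.ker, ⟨hflf, hpull⟩, ?_⟩
  rintro I ⟨-, hI⟩
  refine ideal_ext fun W x => ?_
  rw [le_ker_of_cover f T g, le_ker_of_cover f T g, hI, hpull]

end Groth.HilbPts
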